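import Mathlib.NumberTheory.Zsqrtd.GaussianInt

/-! Certificate data for the Rudvalis lattice. -/

set_option autoImplicit false

namespace Cfsg.Agent.RuLat

/-- Certificate data. -/
def gens : List (List GaussianInt) :=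
  [
  [⟨0,-1⟩,⟨1,0⟩,⟨1,0⟩,⟨1,0⟩,⟨0,0⟩,⟨0,0⟩,⟨0,0⟩,⟨0,0⟩,⟨0,0⟩,⟨0,0⟩,⟨0,0⟩,⟨0,0⟩,⟨1,0⟩,⟨1,0⟩,⟨0,1⟩,⟨-1,0⟩,⟨0,0⟩,⟨0,0⟩,⟨0,0⟩,⟨0,0⟩,⟨1,0⟩,⟨0,1⟩,⟨-1,0⟩,⟨1,0⟩,⟨1,0⟩,⟨-1,0⟩,⟨1,0⟩,⟨0,1⟩],
  [⟨0,-1⟩,⟨1,0⟩,⟨-1,0⟩,⟨-1,0⟩,⟨0,0⟩,⟨0,0⟩,⟨0,0⟩,⟨0,0⟩,⟨0,0⟩,⟨0,0⟩,⟨0,0⟩,⟨0,0⟩,⟨1,0⟩,⟨-1,0⟩,⟨0,1⟩,⟨1,0⟩,⟨0,0⟩,⟨0,0⟩,⟨0,0⟩,⟨0,0⟩,⟨1,0⟩,⟨0,-1⟩,⟨1,0⟩,⟨1,0⟩,⟨1,0⟩,⟨-1,0⟩,⟨-1,0⟩,⟨0,-1⟩],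
  [⟨0,-1⟩,⟨-1,0⟩,⟨1,0⟩,⟨-1,0⟩,⟨0,0⟩,⟨0,0⟩,⟨0,0⟩,⟨0,0⟩,⟨0,0⟩,⟨0,0⟩,⟨0,0⟩,⟨0,0⟩,⟨1,0⟩,⟨1,0⟩,⟨0,-1⟩,⟨1,0⟩,⟨0,0⟩,⟨0,0⟩,⟨0,0⟩,⟨0,0⟩,⟨1,0⟩,⟨0,-1⟩,⟨-1,0⟩,⟨-1,0⟩,⟨1,0⟩,⟨1,0⟩,⟨-1,0⟩,⟨0,1⟩],
  [⟨1,0⟩,⟨1,0⟩,⟨1,0⟩,⟨1,0⟩,⟨1,0⟩,⟨0,0⟩,⟨0,0⟩,⟨-1,0⟩,⟨1,0⟩,⟨-1,0⟩,⟨0,0⟩,⟨0,0⟩,⟨0,0⟩,⟨0,0⟩,⟨-1,0⟩,⟨1,0⟩,⟨1,0⟩,⟨0,0⟩,⟨-1,0⟩,⟨0,0⟩,⟨0,0⟩,⟨-1,0⟩,⟨1,0⟩,⟨0,0⟩,⟨0,0⟩,⟨1,0⟩,⟨0,0⟩,⟨-1,0⟩],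
  [⟨1,0⟩,⟨1,0⟩,⟨1,0⟩,⟨1,0⟩,⟨0,0⟩,⟨-1,0⟩,⟨0,1⟩,⟨0,0⟩,⟨0,0⟩,⟨0,0⟩,⟨-1,0⟩,⟨0,1⟩,⟨-1,0⟩,⟨0,1⟩,⟨0,0⟩,⟨0,0⟩,⟨0,0⟩,⟨0,1⟩,⟨0,0⟩,⟨-1,0⟩,⟨-1,0⟩,⟨0,0⟩,⟨0,0⟩,⟨0,1⟩,⟨-1,0⟩,⟨0,0⟩,⟨0,1⟩,⟨0,0⟩],
  [⟨1,0⟩,⟨1,0⟩,⟨1,0⟩,⟨1,0⟩,⟨0,0⟩,⟨0,1⟩,⟨-1,0⟩,⟨0,0⟩,⟨0,0⟩,⟨0,0⟩,⟨0,1⟩,⟨-1,0⟩,⟨0,1⟩,⟨-1,0⟩,⟨0,0⟩,⟨0,0⟩,⟨0,0⟩,⟨-1,0⟩,⟨0,0⟩,⟨0,1⟩,⟨0,1⟩,⟨0,0⟩,⟨0,0⟩,⟨-1,0⟩,⟨0,1⟩,⟨0,0⟩,⟨-1,0⟩,⟨0,0⟩],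
  [⟨1,0⟩,⟨1,0⟩,⟨-1,0⟩,⟨-1,0⟩,⟨0,0⟩,⟨1,0⟩,⟨0,1⟩,⟨0,0⟩,⟨0,0⟩,⟨0,0⟩,⟨0,1⟩,⟨1,0⟩,⟨-1,0⟩,⟨0,-1⟩,⟨0,0⟩,⟨0,0⟩,⟨0,-1⟩,⟨0,0⟩,⟨0,-1⟩,⟨0,0⟩,⟨0,0⟩,⟨0,-1⟩,⟨0,-1⟩,⟨0,0⟩,⟨0,-1⟩,⟨0,0⟩,⟨-1,0⟩,⟨0,0⟩],
  [⟨1,0⟩,⟨1,0⟩,⟨-1,0⟩,⟨-1,0⟩,⟨0,0⟩,⟨0,-1⟩,⟨-1,0⟩,⟨0,0⟩,⟨0,0⟩,⟨0,0⟩,⟨-1,0⟩,⟨0,-1⟩,⟨0,1⟩,⟨1,0⟩,⟨0,0⟩,⟨0,0⟩,⟨-1,0⟩,⟨0,0⟩,⟨1,0⟩,⟨0,0⟩,⟨0,0⟩,⟨1,0⟩,⟨-1,0⟩,⟨0,0⟩,⟨-1,0⟩,⟨0,0⟩,⟨0,-1⟩,⟨0,0⟩],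
  [⟨1,0⟩,⟨1,0⟩,⟨-1,0⟩,⟨-1,0⟩,⟨1,0⟩,⟨0,0⟩,⟨0,0⟩,⟨1,0⟩,⟨0,-1⟩,⟨0,1⟩,⟨0,0⟩,⟨0,0⟩,⟨0,0⟩,⟨0,0⟩,⟨1,0⟩,⟨1,0⟩,⟨0,0⟩,⟨-1,0⟩,⟨0,0⟩,⟨0,1⟩,⟨0,1⟩,⟨0,0⟩,⟨0,0⟩,⟨-1,0⟩,⟨0,0⟩,⟨0,1⟩,⟨0,0⟩,⟨0,-1⟩],
  [⟨1,0⟩,⟨1,0⟩,⟨-1,0⟩,⟨-1,0⟩,⟨0,-1⟩,⟨0,0⟩,⟨0,0⟩,⟨0,1⟩,⟨1,0⟩,⟨1,0⟩,⟨0,0⟩,⟨0,0⟩,⟨0,0⟩,⟨0,0⟩,⟨0,1⟩,⟨0,-1⟩,⟨0,0⟩,⟨0,-1⟩,⟨0,0⟩,⟨1,0⟩,⟨1,0⟩,⟨0,0⟩,⟨0,0⟩,⟨0,-1⟩,⟨0,0⟩,⟨1,0⟩,⟨0,0⟩,⟨1,0⟩],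
  [⟨1,0⟩,⟨-1,0⟩,⟨1,0⟩,⟨-1,0⟩,⟨0,-1⟩,⟨0,0⟩,⟨0,0⟩,⟨0,-1⟩,⟨0,0⟩,⟨0,0⟩,⟨1,0⟩,⟨0,1⟩,⟨0,0⟩,⟨0,0⟩,⟨0,-1⟩,⟨0,-1⟩,⟨0,0⟩,⟨1,0⟩,⟨0,0⟩,⟨0,1⟩,⟨0,-1⟩,⟨0,0⟩,⟨0,0⟩,⟨-1,0⟩,⟨-1,0⟩,⟨0,0⟩,⟨0,-1⟩,⟨0,0⟩],
  [⟨1,0⟩,⟨-1,0⟩,⟨1,0⟩,⟨-1,0⟩,⟨-1,0⟩,⟨0,0⟩,⟨0,0⟩,⟨1,0⟩,⟨0,0⟩,⟨0,0⟩,⟨0,-1⟩,⟨-1,0⟩,⟨0,0⟩,⟨0,0⟩,⟨1,0⟩,⟨-1,0⟩,⟨0,0⟩,⟨0,-1⟩,⟨0,0⟩,⟨-1,0⟩,⟨-1,0⟩,⟨0,0⟩,⟨0,0⟩,⟨0,-1⟩,⟨0,1⟩,⟨0,0⟩,⟨1,0⟩,⟨0,0⟩],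
  [⟨1,0⟩,⟨-1,0⟩,⟨1,0⟩,⟨-1,0⟩,⟨0,0⟩,⟨0,1⟩,⟨-1,0⟩,⟨0,0⟩,⟨1,0⟩,⟨1,0⟩,⟨0,0⟩,⟨0,0⟩,⟨0,1⟩,⟨-1,0⟩,⟨0,0⟩,⟨0,0⟩,⟨0,-1⟩,⟨0,0⟩,⟨0,1⟩,⟨0,0⟩,⟨0,0⟩,⟨0,-1⟩,⟨0,1⟩,⟨0,0⟩,⟨0,0⟩,⟨1,0⟩,⟨0,0⟩,⟨1,0⟩],
  [⟨1,0⟩,⟨-1,0⟩,⟨1,0⟩,⟨-1,0⟩,⟨0,0⟩,⟨1,0⟩,⟨0,-1⟩,⟨0,0⟩,⟨0,-1⟩,⟨0,1⟩,⟨0,0⟩,⟨0,0⟩,⟨1,0⟩,⟨0,-1⟩,⟨0,0⟩,⟨0,0⟩,⟨1,0⟩,⟨0,0⟩,⟨1,0⟩,⟨0,0⟩,⟨0,0⟩,⟨1,0⟩,⟨1,0⟩,⟨0,0⟩,⟨0,0⟩,⟨0,-1⟩,⟨0,0⟩,⟨0,1⟩],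
  [⟨1,0⟩,⟨-1,0⟩,⟨-1,0⟩,⟨1,0⟩,⟨0,0⟩,⟨0,1⟩,⟨1,0⟩,⟨0,0⟩,⟨0,-1⟩,⟨0,-1⟩,⟨0,0⟩,⟨0,0⟩,⟨0,-1⟩,⟨-1,0⟩,⟨0,0⟩,⟨0,0⟩,⟨0,0⟩,⟨0,1⟩,⟨0,0⟩,⟨1,0⟩,⟨-1,0⟩,⟨0,0⟩,⟨0,0⟩,⟨0,-1⟩,⟨0,0⟩,⟨0,-1⟩,⟨0,0⟩,⟨0,-1⟩],
  [⟨1,0⟩,⟨-1,0⟩,⟨-1,0⟩,⟨1,0⟩,⟨0,0⟩,⟨-1,0⟩,⟨0,-1⟩,⟨0,0⟩,⟨-1,0⟩,⟨1,0⟩,⟨0,0⟩,⟨0,0⟩,⟨-1,0⟩,⟨0,-1⟩,⟨0,0⟩,⟨0,0⟩,⟨0,0⟩,⟨-1,0⟩,⟨0,0⟩,⟨0,-1⟩,⟨0,1⟩,⟨0,0⟩,⟨0,0⟩,⟨1,0⟩,⟨0,0⟩,⟨-1,0⟩,⟨0,0⟩,⟨1,0⟩],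
  [⟨1,0⟩,⟨-1,0⟩,⟨-1,0⟩,⟨1,0⟩,⟨0,-1⟩,⟨0,0⟩,⟨0,0⟩,⟨0,1⟩,⟨0,0⟩,⟨0,0⟩,⟨0,1⟩,⟨-1,0⟩,⟨0,0⟩,⟨0,0⟩,⟨0,-1⟩,⟨0,1⟩,⟨1,0⟩,⟨0,0⟩,⟨1,0⟩,⟨0,0⟩,⟨0,0⟩,⟨1,0⟩,⟨1,0⟩,⟨0,0⟩,⟨0,1⟩,⟨0,0⟩,⟨-1,0⟩,⟨0,0⟩],
  [⟨0,1⟩,⟨0,0⟩,⟨0,0⟩,⟨0,1⟩,⟨0,0⟩,⟨0,0⟩,⟨0,1⟩,⟨1,0⟩,⟨0,0⟩,⟨0,0⟩,⟨0,1⟩,⟨0,1⟩,⟨1,0⟩,⟨0,0⟩,⟨-1,0⟩,⟨0,0⟩,⟨0,0⟩,⟨-1,0⟩,⟨1,0⟩,⟨0,0⟩,⟨0,1⟩,⟨0,0⟩,⟨1,0⟩,⟨0,0⟩,⟨0,1⟩,⟨0,-1⟩,⟨0,-1⟩,⟨0,1⟩],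
  [⟨0,0⟩,⟨0,0⟩,⟨-1,0⟩,⟨0,1⟩,⟨0,0⟩,⟨0,0⟩,⟨-1,0⟩,⟨-1,0⟩,⟨0,1⟩,⟨0,0⟩,⟨0,-1⟩,⟨0,0⟩,⟨0,0⟩,⟨0,-1⟩,⟨0,1⟩,⟨0,0⟩,⟨-1,0⟩,⟨0,0⟩,⟨0,1⟩,⟨0,0⟩,⟨-1,0⟩,⟨1,0⟩,⟨1,0⟩,⟨-1,0⟩,⟨-1,0⟩,⟨0,0⟩,⟨0,0⟩,⟨-1,0⟩],
  [⟨0,0⟩,⟨0,0⟩,⟨0,-1⟩,⟨0,-1⟩,⟨-1,0⟩,⟨0,0⟩,⟨1,0⟩,⟨0,0⟩,⟨0,0⟩,⟨1,0⟩,⟨-1,0⟩,⟨0,0⟩,⟨0,-1⟩,⟨0,0⟩,⟨-1,0⟩,⟨0,0⟩,⟨0,-1⟩,⟨0,1⟩,⟨0,1⟩,⟨0,-1⟩,⟨0,-1⟩,⟨0,0⟩,⟨0,0⟩,⟨0,-1⟩,⟨0,0⟩,⟨0,0⟩,⟨0,-1⟩,⟨-1,0⟩],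
  [⟨0,-1⟩,⟨0,0⟩,⟨0,1⟩,⟨0,0⟩,⟨0,0⟩,⟨0,1⟩,⟨0,-1⟩,⟨0,0⟩,⟨1,0⟩,⟨0,0⟩,⟨0,-1⟩,⟨0,0⟩,⟨1,0⟩,⟨-1,0⟩,⟨-1,0⟩,⟨1,0⟩,⟨1,0⟩,⟨0,0⟩,⟨0,0⟩,⟨1,0⟩,⟨0,0⟩,⟨0,0⟩,⟨1,0⟩,⟨0,-1⟩,⟨0,0⟩,⟨0,0⟩,⟨1,0⟩,⟨1,0⟩],
  [⟨0,1⟩,⟨0,1⟩,⟨0,0⟩,⟨0,0⟩,⟨0,1⟩,⟨-1,0⟩,⟨0,0⟩,⟨0,0⟩,⟨-1,0⟩,⟨0,0⟩,⟨1,0⟩,⟨0,0⟩,⟨-1,0⟩,⟨0,0⟩,⟨0,0⟩,⟨0,-1⟩,⟨-1,0⟩,⟨0,0⟩,⟨0,-1⟩,⟨0,0⟩,⟨0,-1⟩,⟨-1,0⟩,⟨0,1⟩,⟨-1,0⟩,⟨0,0⟩,⟨1,0⟩,⟨0,-1⟩,⟨0,0⟩],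
  [⟨-1,0⟩,⟨0,-1⟩,⟨0,0⟩,⟨0,0⟩,⟨0,-1⟩,⟨0,0⟩,⟨0,1⟩,⟨0,0⟩,⟨0,-1⟩,⟨0,0⟩,⟨0,0⟩,⟨1,0⟩,⟨0,-1⟩,⟨0,0⟩,⟨1,0⟩,⟨0,0⟩,⟨1,0⟩,⟨0,-1⟩,⟨-1,0⟩,⟨0,-1⟩,⟨0,0⟩,⟨0,1⟩,⟨1,0⟩,⟨0,0⟩,⟨-1,0⟩,⟨-1,0⟩,⟨0,0⟩,⟨0,0⟩]]

/-- Certificate data. -/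
def tabC : List (List GaussianInt) :=
  [
  [⟨0,0⟩,⟨0,0⟩,⟨0,0⟩,⟨0,0⟩,⟨0,0⟩,⟨0,0⟩,⟨0,0⟩,⟨0,0⟩,⟨0,0⟩,⟨0,0⟩,⟨0,0⟩,⟨0,0⟩,⟨0,0⟩,⟨0,0⟩,⟨0,0⟩,⟨0,0⟩,⟨0,0⟩,⟨0,0⟩,⟨0,0⟩,⟨0,0⟩,⟨0,0⟩,⟨0,0⟩,⟨0,0⟩],
  [⟨1,0⟩,⟨0,0⟩,⟨0,0⟩,⟨0,0⟩,⟨0,0⟩,⟨0,0⟩,⟨0,0⟩,⟨0,0⟩,⟨0,0⟩,⟨0,0⟩,⟨0,0⟩,⟨0,0⟩,⟨0,0⟩,⟨0,0⟩,⟨0,0⟩,⟨0,0⟩,⟨0,0⟩,⟨0,0⟩,⟨0,0⟩,⟨0,0⟩,⟨0,0⟩,⟨0,0⟩,⟨0,0⟩],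
  [⟨2,0⟩,⟨3,0⟩,⟨0,0⟩,⟨0,3⟩,⟨3,1⟩,⟨1,2⟩,⟨3,3⟩,⟨3,0⟩,⟨0,1⟩,⟨2,2⟩,⟨0,1⟩,⟨3,3⟩,⟨3,1⟩,⟨0,1⟩,⟨0,0⟩,⟨1,0⟩,⟨1,0⟩,⟨2,2⟩,⟨0,2⟩,⟨0,0⟩,⟨0,0⟩,⟨0,0⟩,⟨2,0⟩],
  [⟨0,2⟩,⟨2,2⟩,⟨3,2⟩,⟨1,2⟩,⟨3,3⟩,⟨0,3⟩,⟨0,1⟩,⟨0,2⟩,⟨2,2⟩,⟨0,3⟩,⟨1,3⟩,⟨1,0⟩,⟨1,0⟩,⟨3,3⟩,⟨3,1⟩,⟨0,1⟩,⟨1,0⟩,⟨2,2⟩,⟨0,2⟩,⟨0,0⟩,⟨0,0⟩,⟨2,0⟩,⟨0,0⟩],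
  [⟨1,0⟩,⟨3,2⟩,⟨1,0⟩,⟨1,1⟩,⟨2,0⟩,⟨3,3⟩,⟨1,0⟩,⟨1,0⟩,⟨0,3⟩,⟨0,3⟩,⟨3,0⟩,⟨0,1⟩,⟨0,1⟩,⟨3,0⟩,⟨3,1⟩,⟨3,1⟩,⟨0,0⟩,⟨0,0⟩,⟨0,0⟩,⟨0,0⟩,⟨0,0⟩,⟨2,0⟩,⟨2,0⟩],
  [⟨0,0⟩,⟨0,0⟩,⟨0,0⟩,⟨1,0⟩,⟨0,0⟩,⟨0,0⟩,⟨0,0⟩,⟨0,0⟩,⟨0,0⟩,⟨0,0⟩,⟨0,0⟩,⟨0,0⟩,⟨0,0⟩,⟨0,0⟩,⟨0,0⟩,⟨0,0⟩,⟨0,0⟩,⟨0,0⟩,⟨0,0⟩,⟨0,0⟩,⟨0,0⟩,⟨0,0⟩,⟨0,0⟩],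
  [⟨0,0⟩,⟨0,0⟩,⟨0,0⟩,⟨0,0⟩,⟨1,0⟩,⟨0,0⟩,⟨0,0⟩,⟨0,0⟩,⟨0,0⟩,⟨0,0⟩,⟨0,0⟩,⟨0,0⟩,⟨0,0⟩,⟨0,0⟩,⟨0,0⟩,⟨0,0⟩,⟨0,0⟩,⟨0,0⟩,⟨0,0⟩,⟨0,0⟩,⟨0,0⟩,⟨0,0⟩,⟨0,0⟩],
  [⟨0,0⟩,⟨0,0⟩,⟨0,0⟩,⟨0,0⟩,⟨0,0⟩,⟨1,0⟩,⟨0,0⟩,⟨0,0⟩,⟨0,0⟩,⟨0,0⟩,⟨0,0⟩,⟨0,0⟩,⟨0,0⟩,⟨0,0⟩,⟨0,0⟩,⟨0,0⟩,⟨0,0⟩,⟨0,0⟩,⟨0,0⟩,⟨0,0⟩,⟨0,0⟩,⟨0,0⟩,⟨0,0⟩],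
  [⟨2,0⟩,⟨2,0⟩,⟨0,2⟩,⟨3,3⟩,⟨2,0⟩,⟨3,3⟩,⟨2,2⟩,⟨1,0⟩,⟨2,3⟩,⟨0,3⟩,⟨3,2⟩,⟨2,3⟩,⟨2,1⟩,⟨3,0⟩,⟨3,1⟩,⟨3,1⟩,⟨0,0⟩,⟨0,0⟩,⟨0,0⟩,⟨0,0⟩,⟨0,0⟩,⟨2,0⟩,⟨2,0⟩],
  [⟨0,2⟩,⟨2,0⟩,⟨2,2⟩,⟨0,1⟩,⟨3,1⟩,⟨3,2⟩,⟨3,3⟩,⟨0,0⟩,⟨2,1⟩,⟨0,2⟩,⟨0,3⟩,⟨3,3⟩,⟨1,1⟩,⟨0,1⟩,⟨0,0⟩,⟨1,0⟩,⟨1,0⟩,⟨2,2⟩,⟨0,2⟩,⟨0,0⟩,⟨0,0⟩,⟨0,0⟩,⟨2,0⟩],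
  [⟨0,2⟩,⟨2,0⟩,⟨2,2⟩,⟨2,3⟩,⟨3,1⟩,⟨1,0⟩,⟨1,3⟩,⟨1,0⟩,⟨1,1⟩,⟨2,2⟩,⟨0,3⟩,⟨3,3⟩,⟨1,1⟩,⟨0,1⟩,⟨0,0⟩,⟨1,0⟩,⟨1,0⟩,⟨2,2⟩,⟨0,2⟩,⟨0,0⟩,⟨0,0⟩,⟨0,0⟩,⟨2,0⟩],
  [⟨2,0⟩,⟨2,0⟩,⟨0,2⟩,⟨3,3⟩,⟨0,2⟩,⟨1,1⟩,⟨1,2⟩,⟨1,0⟩,⟨2,3⟩,⟨1,3⟩,⟨3,2⟩,⟨2,3⟩,⟨2,1⟩,⟨3,0⟩,⟨3,1⟩,⟨3,1⟩,⟨0,0⟩,⟨0,0⟩,⟨0,0⟩,⟨0,0⟩,⟨0,0⟩,⟨2,0⟩,⟨2,0⟩],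
  [⟨2,0⟩,⟨2,2⟩,⟨0,2⟩,⟨2,2⟩,⟨0,0⟩,⟨0,0⟩,⟨0,0⟩,⟨2,0⟩,⟨0,0⟩,⟨0,2⟩,⟨3,0⟩,⟨0,0⟩,⟨2,0⟩,⟨0,0⟩,⟨0,0⟩,⟨0,0⟩,⟨0,0⟩,⟨0,0⟩,⟨0,0⟩,⟨0,0⟩,⟨0,0⟩,⟨0,0⟩,⟨0,0⟩],
  [⟨2,0⟩,⟨0,0⟩,⟨2,0⟩,⟨0,0⟩,⟨2,0⟩,⟨0,2⟩,⟨0,0⟩,⟨0,0⟩,⟨2,2⟩,⟨2,2⟩,⟨0,2⟩,⟨3,0⟩,⟨0,0⟩,⟨0,0⟩,⟨0,0⟩,⟨0,0⟩,⟨0,0⟩,⟨0,0⟩,⟨0,0⟩,⟨0,0⟩,⟨0,0⟩,⟨0,0⟩,⟨0,0⟩],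
  [⟨2,2⟩,⟨0,2⟩,⟨2,0⟩,⟨0,1⟩,⟨1,1⟩,⟨3,0⟩,⟨3,1⟩,⟨1,0⟩,⟨2,1⟩,⟨0,2⟩,⟨0,3⟩,⟨3,3⟩,⟨2,1⟩,⟨0,1⟩,⟨0,0⟩,⟨1,0⟩,⟨1,0⟩,⟨2,2⟩,⟨0,2⟩,⟨0,0⟩,⟨0,0⟩,⟨0,0⟩,⟨2,0⟩],
  [⟨0,0⟩,⟨2,0⟩,⟨2,2⟩,⟨3,3⟩,⟨2,0⟩,⟨1,1⟩,⟨1,2⟩,⟨3,0⟩,⟨2,1⟩,⟨2,1⟩,⟨3,2⟩,⟨0,3⟩,⟨2,3⟩,⟨0,0⟩,⟨3,1⟩,⟨3,1⟩,⟨0,0⟩,⟨0,0⟩,⟨0,0⟩,⟨0,0⟩,⟨0,0⟩,⟨2,0⟩,⟨2,0⟩],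
  [⟨0,0⟩,⟨0,0⟩,⟨2,2⟩,⟨0,1⟩,⟨3,3⟩,⟨2,1⟩,⟨0,3⟩,⟨3,1⟩,⟨3,1⟩,⟨1,2⟩,⟨0,0⟩,⟨3,2⟩,⟨1,2⟩,⟨3,3⟩,⟨3,0⟩,⟨0,1⟩,⟨1,0⟩,⟨0,0⟩,⟨0,0⟩,⟨2,0⟩,⟨0,0⟩,⟨2,0⟩,⟨0,0⟩],
  [⟨0,2⟩,⟨0,2⟩,⟨2,2⟩,⟨2,2⟩,⟨2,2⟩,⟨1,1⟩,⟨3,2⟩,⟨0,3⟩,⟨3,0⟩,⟨1,2⟩,⟨0,3⟩,⟨0,1⟩,⟨0,1⟩,⟨3,0⟩,⟨0,0⟩,⟨0,1⟩,⟨0,0⟩,⟨2,2⟩,⟨0,2⟩,⟨2,0⟩,⟨0,0⟩,⟨2,0⟩,⟨2,0⟩],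
  [⟨2,0⟩,⟨2,2⟩,⟨0,0⟩,⟨1,0⟩,⟨1,1⟩,⟨2,1⟩,⟨0,3⟩,⟨0,2⟩,⟨2,2⟩,⟨2,1⟩,⟨1,3⟩,⟨3,2⟩,⟨3,0⟩,⟨3,3⟩,⟨3,1⟩,⟨0,1⟩,⟨0,0⟩,⟨2,2⟩,⟨0,2⟩,⟨0,0⟩,⟨0,0⟩,⟨2,0⟩,⟨0,0⟩],
  [⟨0,0⟩,⟨0,0⟩,⟨2,0⟩,⟨2,3⟩,⟨3,1⟩,⟨2,3⟩,⟨0,3⟩,⟨2,0⟩,⟨1,1⟩,⟨2,3⟩,⟨1,2⟩,⟨1,1⟩,⟨0,2⟩,⟨3,0⟩,⟨3,0⟩,⟨3,1⟩,⟨0,0⟩,⟨2,2⟩,⟨0,2⟩,⟨2,0⟩,⟨0,0⟩,⟨0,0⟩,⟨0,0⟩]]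

/-- Certificate data. -/
def rjC : List (List GaussianInt) :=
  [
  [⟨2,3⟩,⟨3,0⟩,⟨2,0⟩,⟨2,1⟩,⟨0,0⟩,⟨3,3⟩,⟨2,3⟩,⟨1,3⟩,⟨2,0⟩,⟨0,3⟩,⟨2,3⟩,⟨2,3⟩,⟨0,3⟩,⟨0,3⟩,⟨3,0⟩,⟨1,0⟩,⟨0,0⟩,⟨2,3⟩,⟨0,3⟩,⟨0,0⟩,⟨1,0⟩,⟨2,0⟩,⟨2,0⟩],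
  [⟨2,0⟩,⟨0,0⟩,⟨1,3⟩,⟨3,0⟩,⟨3,1⟩,⟨3,1⟩,⟨2,0⟩,⟨0,1⟩,⟨3,0⟩,⟨0,0⟩,⟨1,1⟩,⟨3,1⟩,⟨2,0⟩,⟨0,0⟩,⟨3,0⟩,⟨1,0⟩,⟨0,0⟩,⟨2,3⟩,⟨2,3⟩,⟨0,0⟩,⟨1,0⟩,⟨2,0⟩,⟨0,0⟩],
  [⟨2,0⟩,⟨0,1⟩,⟨3,2⟩,⟨2,2⟩,⟨1,1⟩,⟨0,2⟩,⟨2,2⟩,⟨2,2⟩,⟨1,1⟩,⟨2,1⟩,⟨3,2⟩,⟨0,0⟩,⟨3,1⟩,⟨0,0⟩,⟨2,0⟩,⟨0,1⟩,⟨0,0⟩,⟨2,3⟩,⟨2,1⟩,⟨2,0⟩,⟨1,0⟩,⟨0,0⟩,⟨2,0⟩],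
  [⟨1,1⟩,⟨1,3⟩,⟨0,1⟩,⟨3,0⟩,⟨2,1⟩,⟨3,0⟩,⟨2,1⟩,⟨0,3⟩,⟨2,3⟩,⟨2,3⟩,⟨0,2⟩,⟨1,1⟩,⟨2,2⟩,⟨3,3⟩,⟨2,1⟩,⟨3,1⟩,⟨1,0⟩,⟨2,0⟩,⟨1,3⟩,⟨1,0⟩,⟨0,0⟩,⟨0,0⟩,⟨3,0⟩],
  [⟨0,2⟩,⟨3,2⟩,⟨3,2⟩,⟨2,3⟩,⟨2,3⟩,⟨3,1⟩,⟨2,2⟩,⟨3,0⟩,⟨0,2⟩,⟨1,0⟩,⟨3,0⟩,⟨0,0⟩,⟨1,3⟩,⟨0,0⟩,⟨0,0⟩,⟨0,0⟩,⟨1,0⟩,⟨1,3⟩,⟨3,2⟩,⟨2,0⟩,⟨0,0⟩,⟨0,0⟩,⟨1,0⟩],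
  [⟨2,3⟩,⟨2,0⟩,⟨2,2⟩,⟨1,2⟩,⟨2,0⟩,⟨3,1⟩,⟨1,3⟩,⟨3,3⟩,⟨1,3⟩,⟨3,3⟩,⟨2,2⟩,⟨2,3⟩,⟨2,0⟩,⟨0,0⟩,⟨2,1⟩,⟨0,0⟩,⟨0,0⟩,⟨3,2⟩,⟨3,3⟩,⟨2,0⟩,⟨1,0⟩,⟨0,0⟩,⟨1,0⟩],
  [⟨0,1⟩,⟨3,0⟩,⟨3,3⟩,⟨0,2⟩,⟨0,1⟩,⟨1,2⟩,⟨2,0⟩,⟨3,0⟩,⟨0,0⟩,⟨2,3⟩,⟨3,0⟩,⟨2,3⟩,⟨2,1⟩,⟨3,3⟩,⟨1,1⟩,⟨1,0⟩,⟨0,0⟩,⟨0,3⟩,⟨3,0⟩,⟨1,0⟩,⟨1,0⟩,⟨0,0⟩,⟨1,0⟩],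
  [⟨3,1⟩,⟨3,3⟩,⟨2,3⟩,⟨2,0⟩,⟨1,0⟩,⟨1,3⟩,⟨3,1⟩,⟨1,3⟩,⟨3,0⟩,⟨0,1⟩,⟨1,0⟩,⟨0,1⟩,⟨3,1⟩,⟨0,3⟩,⟨2,1⟩,⟨0,1⟩,⟨1,0⟩,⟨2,0⟩,⟨1,1⟩,⟨1,0⟩,⟨0,0⟩,⟨0,0⟩,⟨1,0⟩],
  [⟨2,1⟩,⟨2,0⟩,⟨0,2⟩,⟨0,0⟩,⟨1,3⟩,⟨2,0⟩,⟨1,2⟩,⟨2,3⟩,⟨1,3⟩,⟨0,1⟩,⟨2,0⟩,⟨0,2⟩,⟨1,1⟩,⟨2,3⟩,⟨2,0⟩,⟨0,1⟩,⟨0,0⟩,⟨3,2⟩,⟨3,1⟩,⟨2,0⟩,⟨1,0⟩,⟨0,0⟩,⟨3,0⟩],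
  [⟨2,0⟩,⟨3,0⟩,⟨3,0⟩,⟨2,2⟩,⟨0,0⟩,⟨3,2⟩,⟨2,0⟩,⟨1,2⟩,⟨2,2⟩,⟨0,0⟩,⟨0,0⟩,⟨0,0⟩,⟨2,1⟩,⟨2,2⟩,⟨3,0⟩,⟨0,1⟩,⟨1,0⟩,⟨3,1⟩,⟨3,2⟩,⟨0,0⟩,⟨0,0⟩,⟨2,0⟩,⟨1,0⟩],
  [⟨2,1⟩,⟨0,0⟩,⟨0,3⟩,⟨2,3⟩,⟨0,2⟩,⟨1,2⟩,⟨1,0⟩,⟨1,2⟩,⟨1,2⟩,⟨3,1⟩,⟨0,0⟩,⟨2,2⟩,⟨0,0⟩,⟨0,3⟩,⟨3,1⟩,⟨1,0⟩,⟨1,0⟩,⟨1,3⟩,⟨1,0⟩,⟨2,0⟩,⟨0,0⟩,⟨2,0⟩,⟨1,0⟩],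
  [⟨1,3⟩,⟨0,3⟩,⟨1,1⟩,⟨1,1⟩,⟨1,1⟩,⟨1,0⟩,⟨0,0⟩,⟨2,2⟩,⟨3,2⟩,⟨2,0⟩,⟨0,2⟩,⟨0,1⟩,⟨2,3⟩,⟨1,0⟩,⟨2,1⟩,⟨0,0⟩,⟨1,0⟩,⟨3,2⟩,⟨3,3⟩,⟨2,0⟩,⟨1,0⟩,⟨2,0⟩,⟨1,0⟩],
  [⟨1,2⟩,⟨1,2⟩,⟨0,1⟩,⟨0,1⟩,⟨1,0⟩,⟨3,2⟩,⟨2,2⟩,⟨2,0⟩,⟨0,1⟩,⟨2,0⟩,⟨2,1⟩,⟨1,3⟩,⟨3,0⟩,⟨0,0⟩,⟨3,0⟩,⟨3,1⟩,⟨0,0⟩,⟨2,0⟩,⟨3,3⟩,⟨1,0⟩,⟨0,0⟩,⟨0,0⟩,⟨3,0⟩],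
  [⟨3,1⟩,⟨2,0⟩,⟨3,1⟩,⟨0,3⟩,⟨3,0⟩,⟨2,0⟩,⟨3,3⟩,⟨0,3⟩,⟨0,1⟩,⟨3,2⟩,⟨1,1⟩,⟨2,1⟩,⟨2,2⟩,⟨3,0⟩,⟨1,1⟩,⟨3,1⟩,⟨1,0⟩,⟨2,1⟩,⟨3,2⟩,⟨1,0⟩,⟨1,0⟩,⟨0,0⟩,⟨1,0⟩],
  [⟨1,1⟩,⟨2,1⟩,⟨3,3⟩,⟨1,1⟩,⟨1,1⟩,⟨2,0⟩,⟨2,2⟩,⟨1,2⟩,⟨0,2⟩,⟨2,1⟩,⟨2,0⟩,⟨3,1⟩,⟨1,1⟩,⟨0,3⟩,⟨2,0⟩,⟨0,1⟩,⟨1,0⟩,⟨1,0⟩,⟨3,3⟩,⟨0,0⟩,⟨1,0⟩,⟨2,0⟩,⟨3,0⟩],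
  [⟨2,3⟩,⟨0,2⟩,⟨2,3⟩,⟨1,3⟩,⟨3,3⟩,⟨2,1⟩,⟨3,3⟩,⟨0,0⟩,⟨1,3⟩,⟨0,2⟩,⟨3,0⟩,⟨0,3⟩,⟨3,1⟩,⟨3,2⟩,⟨2,0⟩,⟨3,1⟩,⟨0,0⟩,⟨3,1⟩,⟨1,0⟩,⟨0,0⟩,⟨0,0⟩,⟨2,0⟩,⟨3,0⟩],
  [⟨3,3⟩,⟨2,0⟩,⟨3,1⟩,⟨1,3⟩,⟨3,0⟩,⟨3,0⟩,⟨1,3⟩,⟨3,2⟩,⟨1,0⟩,⟨2,1⟩,⟨0,1⟩,⟨3,0⟩,⟨1,0⟩,⟨0,0⟩,⟨3,0⟩,⟨1,0⟩,⟨0,0⟩,⟨0,3⟩,⟨3,2⟩,⟨1,0⟩,⟨1,0⟩,⟨2,0⟩,⟨3,0⟩],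
  [⟨2,0⟩,⟨2,1⟩,⟨0,2⟩,⟨3,1⟩,⟨0,0⟩,⟨1,2⟩,⟨2,0⟩,⟨3,1⟩,⟨3,3⟩,⟨2,1⟩,⟨1,0⟩,⟨3,2⟩,⟨0,3⟩,⟨0,3⟩,⟨3,0⟩,⟨3,1⟩,⟨1,0⟩,⟨1,3⟩,⟨3,2⟩,⟨0,0⟩,⟨1,0⟩,⟨3,0⟩,⟨1,0⟩],
  [⟨0,2⟩,⟨2,0⟩,⟨2,1⟩,⟨3,0⟩,⟨2,1⟩,⟨3,2⟩,⟨1,0⟩,⟨0,2⟩,⟨0,3⟩,⟨0,1⟩,⟨2,0⟩,⟨1,1⟩,⟨1,1⟩,⟨3,3⟩,⟨2,1⟩,⟨3,1⟩,⟨1,0⟩,⟨0,1⟩,⟨0,0⟩,⟨3,0⟩,⟨1,0⟩,⟨1,0⟩,⟨0,0⟩],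
  [⟨3,1⟩,⟨1,1⟩,⟨1,1⟩,⟨0,2⟩,⟨3,2⟩,⟨0,2⟩,⟨1,2⟩,⟨1,1⟩,⟨0,2⟩,⟨3,1⟩,⟨0,0⟩,⟨3,1⟩,⟨1,0⟩,⟨0,0⟩,⟨3,0⟩,⟨0,0⟩,⟨0,0⟩,⟨3,1⟩,⟨2,1⟩,⟨2,0⟩,⟨0,0⟩,⟨1,0⟩,⟨1,0⟩],
  [⟨3,3⟩,⟨3,2⟩,⟨3,1⟩,⟨1,1⟩,⟨3,0⟩,⟨1,3⟩,⟨2,2⟩,⟨1,1⟩,⟨3,3⟩,⟨0,3⟩,⟨1,3⟩,⟨0,2⟩,⟨3,1⟩,⟨3,3⟩,⟨0,0⟩,⟨1,0⟩,⟨1,0⟩,⟨1,0⟩,⟨3,3⟩,⟨3,0⟩,⟨0,0⟩,⟨2,0⟩,⟨2,0⟩],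
  [⟨1,3⟩,⟨1,3⟩,⟨1,3⟩,⟨3,3⟩,⟨3,2⟩,⟨3,1⟩,⟨3,0⟩,⟨0,0⟩,⟨3,0⟩,⟨2,0⟩,⟨3,1⟩,⟨0,3⟩,⟨0,1⟩,⟨3,2⟩,⟨2,1⟩,⟨3,1⟩,⟨0,0⟩,⟨2,0⟩,⟨3,3⟩,⟨3,0⟩,⟨0,0⟩,⟨2,0⟩,⟨2,0⟩],
  [⟨2,2⟩,⟨3,1⟩,⟨2,3⟩,⟨2,3⟩,⟨3,0⟩,⟨1,0⟩,⟨2,3⟩,⟨0,0⟩,⟨3,1⟩,⟨3,2⟩,⟨0,2⟩,⟨2,3⟩,⟨1,3⟩,⟨2,3⟩,⟨0,1⟩,⟨3,1⟩,⟨1,0⟩,⟨1,2⟩,⟨0,0⟩,⟨3,0⟩,⟨1,0⟩,⟨1,0⟩,⟨2,0⟩]]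

/-- Certificate data. -/
def rkC : List (List GaussianInt) :=
  [
  [⟨1,2⟩,⟨3,1⟩,⟨3,3⟩,⟨3,2⟩,⟨0,3⟩,⟨0,2⟩,⟨0,2⟩,⟨1,0⟩,⟨2,1⟩,⟨3,1⟩,⟨1,0⟩,⟨3,1⟩,⟨3,0⟩,⟨3,2⟩,⟨1,1⟩,⟨0,1⟩,⟨0,0⟩,⟨1,0⟩,⟨2,2⟩,⟨3,0⟩,⟨1,0⟩,⟨0,0⟩,⟨2,0⟩],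
  [⟨1,3⟩,⟨1,0⟩,⟨1,3⟩,⟨2,0⟩,⟨0,3⟩,⟨3,1⟩,⟨0,0⟩,⟨0,2⟩,⟨3,1⟩,⟨3,2⟩,⟨1,3⟩,⟨1,1⟩,⟨1,0⟩,⟨1,0⟩,⟨2,1⟩,⟨1,0⟩,⟨0,0⟩,⟨1,0⟩,⟨0,0⟩,⟨1,0⟩,⟨1,0⟩,⟨0,0⟩,⟨0,0⟩],
  [⟨2,2⟩,⟨2,2⟩,⟨3,2⟩,⟨0,1⟩,⟨1,0⟩,⟨1,1⟩,⟨0,3⟩,⟨1,3⟩,⟨2,2⟩,⟨2,1⟩,⟨2,2⟩,⟨0,3⟩,⟨1,1⟩,⟨2,2⟩,⟨2,0⟩,⟨0,1⟩,⟨0,0⟩,⟨3,2⟩,⟨2,2⟩,⟨1,0⟩,⟨1,0⟩,⟨2,0⟩,⟨2,0⟩],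
  [⟨1,0⟩,⟨3,3⟩,⟨2,2⟩,⟨0,3⟩,⟨3,3⟩,⟨0,1⟩,⟨1,3⟩,⟨3,2⟩,⟨0,3⟩,⟨3,1⟩,⟨2,3⟩,⟨0,1⟩,⟨3,0⟩,⟨3,3⟩,⟨2,1⟩,⟨3,1⟩,⟨0,0⟩,⟨1,3⟩,⟨3,1⟩,⟨0,0⟩,⟨0,0⟩,⟨1,0⟩,⟨1,0⟩],
  [⟨0,3⟩,⟨2,1⟩,⟨0,0⟩,⟨1,2⟩,⟨2,3⟩,⟨0,0⟩,⟨0,0⟩,⟨0,3⟩,⟨0,1⟩,⟨0,3⟩,⟨3,1⟩,⟨0,0⟩,⟨3,0⟩,⟨3,2⟩,⟨2,0⟩,⟨3,1⟩,⟨0,0⟩,⟨3,0⟩,⟨1,0⟩,⟨2,0⟩,⟨1,0⟩,⟨1,0⟩,⟨1,0⟩],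
  [⟨0,1⟩,⟨2,2⟩,⟨0,1⟩,⟨1,3⟩,⟨1,2⟩,⟨0,3⟩,⟨2,3⟩,⟨1,2⟩,⟨1,2⟩,⟨3,3⟩,⟨2,3⟩,⟨3,0⟩,⟨3,1⟩,⟨0,3⟩,⟨3,0⟩,⟨0,1⟩,⟨1,0⟩,⟨2,2⟩,⟨1,2⟩,⟨1,0⟩,⟨0,0⟩,⟨3,0⟩,⟨3,0⟩],
  [⟨0,0⟩,⟨1,3⟩,⟨3,3⟩,⟨0,0⟩,⟨3,0⟩,⟨0,2⟩,⟨3,3⟩,⟨2,1⟩,⟨1,0⟩,⟨3,3⟩,⟨2,3⟩,⟨3,0⟩,⟨3,0⟩,⟨0,0⟩,⟨0,0⟩,⟨0,0⟩,⟨1,0⟩,⟨0,2⟩,⟨3,0⟩,⟨1,0⟩,⟨0,0⟩,⟨3,0⟩,⟨1,0⟩],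
  [⟨1,3⟩,⟨1,2⟩,⟨2,3⟩,⟨3,2⟩,⟨0,2⟩,⟨1,1⟩,⟨2,3⟩,⟨0,1⟩,⟨3,1⟩,⟨1,1⟩,⟨0,3⟩,⟨0,1⟩,⟨0,1⟩,⟨3,0⟩,⟨2,1⟩,⟨0,1⟩,⟨0,0⟩,⟨3,2⟩,⟨1,0⟩,⟨2,0⟩,⟨1,0⟩,⟨3,0⟩,⟨1,0⟩],
  [⟨3,3⟩,⟨3,0⟩,⟨2,0⟩,⟨0,0⟩,⟨0,3⟩,⟨1,0⟩,⟨2,0⟩,⟨1,0⟩,⟨1,1⟩,⟨2,3⟩,⟨2,2⟩,⟨1,0⟩,⟨2,0⟩,⟨0,0⟩,⟨0,0⟩,⟨0,0⟩,⟨1,0⟩,⟨0,1⟩,⟨1,3⟩,⟨1,0⟩,⟨1,0⟩,⟨3,0⟩,⟨3,0⟩],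
  [⟨3,3⟩,⟨3,1⟩,⟨2,1⟩,⟨2,1⟩,⟨1,1⟩,⟨0,3⟩,⟨3,3⟩,⟨1,3⟩,⟨0,0⟩,⟨0,0⟩,⟨0,2⟩,⟨2,3⟩,⟨2,0⟩,⟨3,2⟩,⟨3,0⟩,⟨0,1⟩,⟨0,0⟩,⟨3,3⟩,⟨1,1⟩,⟨2,0⟩,⟨0,0⟩,⟨1,0⟩,⟨3,0⟩],
  [⟨0,1⟩,⟨3,0⟩,⟨1,2⟩,⟨0,2⟩,⟨3,2⟩,⟨1,0⟩,⟨3,2⟩,⟨3,2⟩,⟨3,3⟩,⟨0,1⟩,⟨0,2⟩,⟨3,2⟩,⟨3,0⟩,⟨0,0⟩,⟨3,1⟩,⟨0,0⟩,⟨1,0⟩,⟨0,3⟩,⟨3,3⟩,⟨3,0⟩,⟨1,0⟩,⟨1,0⟩,⟨3,0⟩],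
  [⟨1,2⟩,⟨3,3⟩,⟨2,2⟩,⟨1,2⟩,⟨1,3⟩,⟨3,0⟩,⟨1,2⟩,⟨2,0⟩,⟨1,0⟩,⟨0,3⟩,⟨2,3⟩,⟨0,0⟩,⟨2,1⟩,⟨3,0⟩,⟨3,0⟩,⟨0,1⟩,⟨0,0⟩,⟨1,3⟩,⟨1,3⟩,⟨0,0⟩,⟨0,0⟩,⟨3,0⟩,⟨3,0⟩],
  [⟨2,1⟩,⟨0,0⟩,⟨2,1⟩,⟨0,1⟩,⟨0,1⟩,⟨2,3⟩,⟨0,1⟩,⟨1,2⟩,⟨3,1⟩,⟨0,1⟩,⟨3,1⟩,⟨2,2⟩,⟨0,0⟩,⟨0,0⟩,⟨3,1⟩,⟨1,0⟩,⟨0,0⟩,⟨2,2⟩,⟨3,0⟩,⟨3,0⟩,⟨0,0⟩,⟨1,0⟩,⟨3,0⟩],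
  [⟨0,3⟩,⟨2,1⟩,⟨0,0⟩,⟨2,1⟩,⟨1,3⟩,⟨2,2⟩,⟨1,3⟩,⟨0,2⟩,⟨0,1⟩,⟨0,2⟩,⟨2,0⟩,⟨3,0⟩,⟨2,0⟩,⟨1,1⟩,⟨2,1⟩,⟨1,0⟩,⟨0,0⟩,⟨1,2⟩,⟨3,0⟩,⟨0,0⟩,⟨1,0⟩,⟨3,0⟩,⟨3,0⟩],
  [⟨3,1⟩,⟨3,2⟩,⟨0,1⟩,⟨3,3⟩,⟨3,1⟩,⟨0,2⟩,⟨3,2⟩,⟨1,1⟩,⟨3,0⟩,⟨2,0⟩,⟨2,0⟩,⟨0,0⟩,⟨1,1⟩,⟨3,2⟩,⟨1,1⟩,⟨3,1⟩,⟨0,0⟩,⟨3,2⟩,⟨3,2⟩,⟨2,0⟩,⟨1,0⟩,⟨1,0⟩,⟨3,0⟩],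
  [⟨2,2⟩,⟨3,3⟩,⟨3,1⟩,⟨2,0⟩,⟨3,2⟩,⟨2,1⟩,⟨2,1⟩,⟨3,1⟩,⟨0,1⟩,⟨1,1⟩,⟨0,3⟩,⟨2,2⟩,⟨2,0⟩,⟨3,0⟩,⟨0,0⟩,⟨1,0⟩,⟨0,0⟩,⟨2,0⟩,⟨1,0⟩,⟨3,0⟩,⟨0,0⟩,⟨1,0⟩,⟨3,0⟩],
  [⟨3,1⟩,⟨1,1⟩,⟨0,1⟩,⟨0,3⟩,⟨0,0⟩,⟨2,3⟩,⟨1,2⟩,⟨0,2⟩,⟨1,2⟩,⟨0,1⟩,⟨0,1⟩,⟨1,0⟩,⟨0,0⟩,⟨0,0⟩,⟨3,1⟩,⟨0,0⟩,⟨1,0⟩,⟨1,1⟩,⟨3,1⟩,⟨2,0⟩,⟨0,0⟩,⟨3,0⟩,⟨3,0⟩],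
  [⟨3,1⟩,⟨3,2⟩,⟨1,3⟩,⟨1,3⟩,⟨2,0⟩,⟨0,2⟩,⟨0,1⟩,⟨2,0⟩,⟨2,2⟩,⟨2,3⟩,⟨0,2⟩,⟨1,3⟩,⟨3,3⟩,⟨2,2⟩,⟨1,1⟩,⟨3,1⟩,⟨0,0⟩,⟨0,1⟩,⟨1,1⟩,⟨0,0⟩,⟨0,0⟩,⟨0,0⟩,⟨0,0⟩],
  [⟨0,1⟩,⟨0,1⟩,⟨2,0⟩,⟨1,2⟩,⟨1,3⟩,⟨3,3⟩,⟨1,2⟩,⟨2,0⟩,⟨3,2⟩,⟨1,0⟩,⟨0,2⟩,⟨0,2⟩,⟨1,2⟩,⟨2,2⟩,⟨2,1⟩,⟨0,1⟩,⟨1,0⟩,⟨0,0⟩,⟨0,0⟩,⟨2,0⟩,⟨0,0⟩,⟨3,0⟩,⟨0,0⟩],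
  [⟨3,0⟩,⟨3,0⟩,⟨0,0⟩,⟨0,1⟩,⟨1,2⟩,⟨3,3⟩,⟨0,3⟩,⟨2,2⟩,⟨2,3⟩,⟨3,3⟩,⟨1,3⟩,⟨0,0⟩,⟨2,1⟩,⟨0,3⟩,⟨2,1⟩,⟨0,1⟩,⟨0,0⟩,⟨0,0⟩,⟨2,0⟩,⟨0,0⟩,⟨0,0⟩,⟨0,0⟩,⟨3,0⟩],
  [⟨1,3⟩,⟨0,3⟩,⟨0,1⟩,⟨1,2⟩,⟨2,1⟩,⟨0,1⟩,⟨3,2⟩,⟨1,3⟩,⟨0,1⟩,⟨3,1⟩,⟨3,2⟩,⟨0,2⟩,⟨2,1⟩,⟨3,3⟩,⟨3,1⟩,⟨0,0⟩,⟨0,0⟩,⟨1,2⟩,⟨1,2⟩,⟨3,0⟩,⟨0,0⟩,⟨0,0⟩,⟨3,0⟩],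
  [⟨2,3⟩,⟨0,1⟩,⟨2,2⟩,⟨2,0⟩,⟨3,3⟩,⟨3,2⟩,⟨2,1⟩,⟨1,0⟩,⟨0,2⟩,⟨3,2⟩,⟨2,3⟩,⟨3,1⟩,⟨3,0⟩,⟨0,3⟩,⟨2,1⟩,⟨0,0⟩,⟨0,0⟩,⟨2,2⟩,⟨1,2⟩,⟨0,0⟩,⟨0,0⟩,⟨0,0⟩,⟨0,0⟩],
  [⟨0,1⟩,⟨3,0⟩,⟨1,1⟩,⟨1,0⟩,⟨1,0⟩,⟨2,2⟩,⟨1,3⟩,⟨1,2⟩,⟨3,1⟩,⟨0,3⟩,⟨3,0⟩,⟨3,2⟩,⟨2,2⟩,⟨3,3⟩,⟨3,0⟩,⟨1,0⟩,⟨0,0⟩,⟨2,2⟩,⟨0,2⟩,⟨1,0⟩,⟨0,0⟩,⟨0,0⟩,⟨0,0⟩]]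

/-- Certificate data. -/
def sgC : List (List GaussianInt) :=
  [
  [⟨3,0⟩,⟨0,0⟩,⟨0,0⟩,⟨0,0⟩,⟨0,0⟩,⟨0,0⟩,⟨0,0⟩,⟨0,0⟩,⟨0,0⟩,⟨0,0⟩,⟨0,0⟩,⟨0,0⟩,⟨0,0⟩,⟨0,0⟩,⟨0,0⟩,⟨0,0⟩,⟨0,0⟩,⟨0,0⟩,⟨0,0⟩,⟨0,0⟩,⟨0,0⟩,⟨0,0⟩,⟨0,0⟩],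
  [⟨0,0⟩,⟨3,0⟩,⟨0,0⟩,⟨0,3⟩,⟨3,1⟩,⟨1,2⟩,⟨3,3⟩,⟨3,0⟩,⟨0,1⟩,⟨2,2⟩,⟨0,1⟩,⟨3,3⟩,⟨3,1⟩,⟨0,1⟩,⟨0,0⟩,⟨1,0⟩,⟨1,0⟩,⟨2,2⟩,⟨0,2⟩,⟨0,0⟩,⟨0,0⟩,⟨0,0⟩,⟨2,0⟩],
  [⟨2,2⟩,⟨2,2⟩,⟨3,2⟩,⟨1,2⟩,⟨3,3⟩,⟨0,3⟩,⟨0,1⟩,⟨0,2⟩,⟨2,2⟩,⟨0,3⟩,⟨1,3⟩,⟨1,0⟩,⟨1,0⟩,⟨3,3⟩,⟨3,1⟩,⟨0,1⟩,⟨1,0⟩,⟨2,2⟩,⟨0,2⟩,⟨0,0⟩,⟨0,0⟩,⟨2,0⟩,⟨0,0⟩],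
  [⟨0,0⟩,⟨2,2⟩,⟨2,2⟩,⟨3,0⟩,⟨2,3⟩,⟨0,1⟩,⟨2,2⟩,⟨3,3⟩,⟨0,1⟩,⟨3,0⟩,⟨2,3⟩,⟨3,2⟩,⟨0,2⟩,⟨3,3⟩,⟨2,1⟩,⟨0,1⟩,⟨0,0⟩,⟨0,0⟩,⟨0,0⟩,⟨2,0⟩,⟨0,0⟩,⟨2,0⟩,⟨0,0⟩],
  [⟨0,0⟩,⟨2,0⟩,⟨2,2⟩,⟨1,3⟩,⟨3,3⟩,⟨3,1⟩,⟨0,1⟩,⟨2,1⟩,⟨0,0⟩,⟨0,1⟩,⟨1,1⟩,⟨3,3⟩,⟨1,0⟩,⟨1,1⟩,⟨3,1⟩,⟨0,0⟩,⟨1,0⟩,⟨2,2⟩,⟨0,2⟩,⟨0,0⟩,⟨0,0⟩,⟨2,0⟩,⟨0,0⟩],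
  [⟨2,2⟩,⟨0,0⟩,⟨0,0⟩,⟨3,1⟩,⟨3,0⟩,⟨3,0⟩,⟨0,3⟩,⟨0,1⟩,⟨1,3⟩,⟨3,0⟩,⟨0,2⟩,⟨0,2⟩,⟨1,0⟩,⟨3,3⟩,⟨0,0⟩,⟨3,1⟩,⟨1,0⟩,⟨0,0⟩,⟨0,0⟩,⟨2,0⟩,⟨0,0⟩,⟨2,0⟩,⟨0,0⟩],
  [⟨2,0⟩,⟨2,2⟩,⟨0,2⟩,⟨0,3⟩,⟨1,2⟩,⟨2,2⟩,⟨3,1⟩,⟨3,1⟩,⟨0,1⟩,⟨2,0⟩,⟨0,1⟩,⟨1,3⟩,⟨2,3⟩,⟨0,0⟩,⟨0,1⟩,⟨0,0⟩,⟨1,0⟩,⟨2,2⟩,⟨0,2⟩,⟨0,0⟩,⟨0,0⟩,⟨0,0⟩,⟨2,0⟩],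
  [⟨2,2⟩,⟨2,2⟩,⟨2,2⟩,⟨2,2⟩,⟨3,2⟩,⟨1,2⟩,⟨1,1⟩,⟨0,3⟩,⟨1,2⟩,⟨3,2⟩,⟨2,1⟩,⟨0,3⟩,⟨2,0⟩,⟨0,0⟩,⟨1,0⟩,⟨1,0⟩,⟨0,0⟩,⟨2,2⟩,⟨0,2⟩,⟨2,0⟩,⟨0,0⟩,⟨2,0⟩,⟨2,0⟩],
  [⟨0,2⟩,⟨0,2⟩,⟨0,0⟩,⟨2,0⟩,⟨2,3⟩,⟨1,3⟩,⟨3,0⟩,⟨3,0⟩,⟨2,3⟩,⟨2,3⟩,⟨1,1⟩,⟨1,3⟩,⟨1,0⟩,⟨0,0⟩,⟨0,0⟩,⟨0,0⟩,⟨1,0⟩,⟨2,2⟩,⟨0,2⟩,⟨2,0⟩,⟨0,0⟩,⟨2,0⟩,⟨2,0⟩],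
  [⟨2,0⟩,⟨0,0⟩,⟨0,0⟩,⟨1,0⟩,⟨0,3⟩,⟨2,3⟩,⟨0,2⟩,⟨2,1⟩,⟨1,1⟩,⟨3,2⟩,⟨2,2⟩,⟨0,3⟩,⟨1,1⟩,⟨0,0⟩,⟨0,0⟩,⟨1,0⟩,⟨0,0⟩,⟨0,0⟩,⟨0,0⟩,⟨2,0⟩,⟨0,0⟩,⟨0,0⟩,⟨2,0⟩],
  [⟨2,0⟩,⟨2,2⟩,⟨2,0⟩,⟨2,0⟩,⟨0,1⟩,⟨0,3⟩,⟨3,2⟩,⟨1,0⟩,⟨3,1⟩,⟨1,3⟩,⟨3,0⟩,⟨2,0⟩,⟨3,2⟩,⟨1,0⟩,⟨1,0⟩,⟨1,0⟩,⟨0,0⟩,⟨0,0⟩,⟨0,0⟩,⟨2,0⟩,⟨0,0⟩,⟨2,0⟩,⟨0,0⟩],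
  [⟨0,0⟩,⟨2,2⟩,⟨2,2⟩,⟨3,3⟩,⟨1,0⟩,⟨3,2⟩,⟨0,1⟩,⟨3,2⟩,⟨2,2⟩,⟨0,2⟩,⟨3,1⟩,⟨3,0⟩,⟨2,1⟩,⟨0,3⟩,⟨3,0⟩,⟨0,1⟩,⟨0,0⟩,⟨0,0⟩,⟨0,0⟩,⟨2,0⟩,⟨0,0⟩,⟨2,0⟩,⟨0,0⟩],
  [⟨2,2⟩,⟨2,2⟩,⟨2,2⟩,⟨3,0⟩,⟨3,2⟩,⟨2,3⟩,⟨2,0⟩,⟨3,0⟩,⟨1,1⟩,⟨0,2⟩,⟨1,1⟩,⟨1,0⟩,⟨2,1⟩,⟨3,3⟩,⟨0,0⟩,⟨0,1⟩,⟨0,0⟩,⟨2,2⟩,⟨0,2⟩,⟨2,0⟩,⟨0,0⟩,⟨2,0⟩,⟨2,0⟩],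
  [⟨2,2⟩,⟨2,0⟩,⟨0,2⟩,⟨0,2⟩,⟨3,2⟩,⟨1,3⟩,⟨1,0⟩,⟨2,1⟩,⟨3,1⟩,⟨0,3⟩,⟨0,2⟩,⟨0,0⟩,⟨1,0⟩,⟨0,3⟩,⟨0,0⟩,⟨3,1⟩,⟨1,0⟩,⟨2,2⟩,⟨0,2⟩,⟨0,0⟩,⟨0,0⟩,⟨0,0⟩,⟨2,0⟩],
  [⟨0,2⟩,⟨2,2⟩,⟨2,0⟩,⟨0,0⟩,⟨2,3⟩,⟨1,2⟩,⟨0,2⟩,⟨2,0⟩,⟨3,0⟩,⟨0,3⟩,⟨0,1⟩,⟨3,0⟩,⟨0,0⟩,⟨0,0⟩,⟨0,0⟩,⟨0,1⟩,⟨0,0⟩,⟨0,0⟩,⟨0,0⟩,⟨0,0⟩,⟨0,0⟩,⟨0,0⟩,⟨0,0⟩],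
  [⟨2,0⟩,⟨2,0⟩,⟨2,0⟩,⟨3,0⟩,⟨2,1⟩,⟨1,3⟩,⟨1,3⟩,⟨0,3⟩,⟨3,1⟩,⟨0,3⟩,⟨2,0⟩,⟨3,0⟩,⟨3,3⟩,⟨0,1⟩,⟨1,0⟩,⟨1,0⟩,⟨1,0⟩,⟨0,0⟩,⟨0,0⟩,⟨2,0⟩,⟨0,0⟩,⟨0,0⟩,⟨2,0⟩],
  [⟨0,0⟩,⟨0,2⟩,⟨2,2⟩,⟨0,2⟩,⟨0,3⟩,⟨0,2⟩,⟨1,0⟩,⟨3,0⟩,⟨3,3⟩,⟨3,2⟩,⟨3,3⟩,⟨2,0⟩,⟨2,3⟩,⟨1,1⟩,⟨3,1⟩,⟨0,0⟩,⟨0,0⟩,⟨2,2⟩,⟨0,2⟩,⟨2,0⟩,⟨0,0⟩,⟨0,0⟩,⟨0,0⟩],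
  [⟨1,3⟩,⟨0,3⟩,⟨1,2⟩,⟨2,3⟩,⟨0,1⟩,⟨2,3⟩,⟨3,0⟩,⟨0,2⟩,⟨0,1⟩,⟨3,0⟩,⟨3,2⟩,⟨0,2⟩,⟨3,2⟩,⟨2,3⟩,⟨2,0⟩,⟨0,1⟩,⟨0,0⟩,⟨3,2⟩,⟨2,2⟩,⟨0,0⟩,⟨0,0⟩,⟨2,0⟩,⟨2,0⟩],
  [⟨1,0⟩,⟨1,0⟩,⟨0,0⟩,⟨3,3⟩,⟨0,1⟩,⟨3,3⟩,⟨2,1⟩,⟨3,0⟩,⟨1,3⟩,⟨2,1⟩,⟨3,3⟩,⟨0,2⟩,⟨0,3⟩,⟨1,1⟩,⟨3,1⟩,⟨0,0⟩,⟨1,0⟩,⟨0,0⟩,⟨1,2⟩,⟨0,0⟩,⟨0,0⟩,⟨0,0⟩,⟨2,0⟩],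
  [⟨2,1⟩,⟨1,0⟩,⟨1,1⟩,⟨2,1⟩,⟨3,3⟩,⟨1,2⟩,⟨1,3⟩,⟨1,2⟩,⟨2,3⟩,⟨2,0⟩,⟨0,3⟩,⟨3,1⟩,⟨1,3⟩,⟨0,3⟩,⟨0,0⟩,⟨1,0⟩,⟨1,0⟩,⟨2,2⟩,⟨0,0⟩,⟨1,0⟩,⟨0,0⟩,⟨2,0⟩,⟨2,0⟩],
  [⟨1,0⟩,⟨1,3⟩,⟨0,1⟩,⟨0,0⟩,⟨0,3⟩,⟨0,2⟩,⟨1,0⟩,⟨1,0⟩,⟨1,1⟩,⟨3,2⟩,⟨3,3⟩,⟨0,0⟩,⟨0,3⟩,⟨1,1⟩,⟨3,1⟩,⟨0,0⟩,⟨1,0⟩,⟨0,0⟩,⟨2,2⟩,⟨2,0⟩,⟨1,0⟩,⟨0,0⟩,⟨2,0⟩],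
  [⟨2,1⟩,⟨0,3⟩,⟨2,2⟩,⟨1,2⟩,⟨0,3⟩,⟨2,2⟩,⟨2,3⟩,⟨2,2⟩,⟨0,1⟩,⟨3,1⟩,⟨0,3⟩,⟨1,1⟩,⟨3,0⟩,⟨3,3⟩,⟨3,0⟩,⟨3,1⟩,⟨1,0⟩,⟨2,2⟩,⟨0,2⟩,⟨0,0⟩,⟨0,0⟩,⟨3,0⟩,⟨0,0⟩],
  [⟨3,0⟩,⟨0,1⟩,⟨1,3⟩,⟨3,2⟩,⟨0,2⟩,⟨2,2⟩,⟨1,0⟩,⟨1,3⟩,⟨0,2⟩,⟨3,3⟩,⟨2,0⟩,⟨0,3⟩,⟨0,3⟩,⟨1,0⟩,⟨1,0⟩,⟨0,0⟩,⟨0,0⟩,⟨0,0⟩,⟨2,0⟩,⟨2,0⟩,⟨0,0⟩,⟨0,0⟩,⟨1,0⟩]]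

/-- Certificate data. -/
def shC : List (List GaussianInt) :=
  [
  [⟨2,2⟩,⟨2,2⟩,⟨0,0⟩,⟨2,0⟩,⟨2,0⟩,⟨1,1⟩,⟨1,1⟩,⟨0,3⟩,⟨1,1⟩,⟨2,0⟩,⟨3,3⟩,⟨2,3⟩,⟨1,2⟩,⟨1,1⟩,⟨0,1⟩,⟨1,0⟩,⟨1,0⟩,⟨2,0⟩,⟨2,0⟩,⟨0,0⟩,⟨0,0⟩,⟨2,0⟩,⟨2,0⟩],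
  [⟨2,0⟩,⟨0,2⟩,⟨0,0⟩,⟨0,3⟩,⟨2,1⟩,⟨2,2⟩,⟨2,0⟩,⟨2,3⟩,⟨2,3⟩,⟨1,2⟩,⟨1,0⟩,⟨2,3⟩,⟨3,0⟩,⟨0,1⟩,⟨1,0⟩,⟨1,0⟩,⟨1,0⟩,⟨0,2⟩,⟨2,2⟩,⟨2,0⟩,⟨0,0⟩,⟨0,0⟩,⟨0,0⟩],
  [⟨0,0⟩,⟨2,2⟩,⟨2,2⟩,⟨3,3⟩,⟨3,3⟩,⟨0,0⟩,⟨0,2⟩,⟨0,0⟩,⟨0,3⟩,⟨0,2⟩,⟨2,1⟩,⟨2,3⟩,⟨0,0⟩,⟨1,1⟩,⟨0,0⟩,⟨0,0⟩,⟨1,0⟩,⟨0,2⟩,⟨2,0⟩,⟨0,0⟩,⟨0,0⟩,⟨2,0⟩,⟨2,0⟩],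
  [⟨1,3⟩,⟨0,0⟩,⟨0,1⟩,⟨1,0⟩,⟨2,0⟩,⟨3,1⟩,⟨1,0⟩,⟨3,1⟩,⟨2,1⟩,⟨2,1⟩,⟨1,3⟩,⟨3,1⟩,⟨0,0⟩,⟨0,0⟩,⟨3,1⟩,⟨0,0⟩,⟨0,0⟩,⟨2,0⟩,⟨0,3⟩,⟨3,0⟩,⟨1,0⟩,⟨3,0⟩,⟨0,0⟩],
  [⟨1,3⟩,⟨1,3⟩,⟨2,2⟩,⟨3,0⟩,⟨2,2⟩,⟨1,2⟩,⟨1,2⟩,⟨2,3⟩,⟨1,2⟩,⟨2,1⟩,⟨0,3⟩,⟨0,1⟩,⟨2,1⟩,⟨0,0⟩,⟨2,1⟩,⟨0,0⟩,⟨1,0⟩,⟨1,1⟩,⟨1,2⟩,⟨0,0⟩,⟨1,0⟩,⟨2,0⟩,⟨0,0⟩],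
  [⟨3,0⟩,⟨0,1⟩,⟨3,0⟩,⟨0,3⟩,⟨0,2⟩,⟨0,0⟩,⟨1,1⟩,⟨3,0⟩,⟨2,1⟩,⟨3,1⟩,⟨3,2⟩,⟨2,0⟩,⟨2,3⟩,⟨1,1⟩,⟨0,0⟩,⟨1,0⟩,⟨0,0⟩,⟨3,3⟩,⟨1,1⟩,⟨3,0⟩,⟨1,0⟩,⟨2,0⟩,⟨0,0⟩],
  [⟨0,3⟩,⟨1,1⟩,⟨2,2⟩,⟨1,1⟩,⟨3,0⟩,⟨2,3⟩,⟨0,2⟩,⟨1,2⟩,⟨2,2⟩,⟨2,0⟩,⟨1,2⟩,⟨0,3⟩,⟨0,2⟩,⟨2,3⟩,⟨3,0⟩,⟨3,1⟩,⟨0,0⟩,⟨1,0⟩,⟨3,1⟩,⟨1,0⟩,⟨0,0⟩,⟨1,0⟩,⟨2,0⟩],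
  [⟨1,2⟩,⟨3,1⟩,⟨3,3⟩,⟨0,3⟩,⟨3,2⟩,⟨0,0⟩,⟨0,1⟩,⟨3,2⟩,⟨2,0⟩,⟨0,3⟩,⟨1,1⟩,⟨3,2⟩,⟨1,2⟩,⟨3,0⟩,⟨3,0⟩,⟨1,0⟩,⟨1,0⟩,⟨0,1⟩,⟨3,1⟩,⟨3,0⟩,⟨0,0⟩,⟨3,0⟩,⟨2,0⟩],
  [⟨0,0⟩,⟨2,2⟩,⟨0,0⟩,⟨3,2⟩,⟨2,3⟩,⟨3,2⟩,⟨0,2⟩,⟨1,3⟩,⟨3,2⟩,⟨3,0⟩,⟨1,3⟩,⟨3,0⟩,⟨3,3⟩,⟨0,1⟩,⟨0,1⟩,⟨1,0⟩,⟨1,0⟩,⟨2,3⟩,⟨0,2⟩,⟨2,0⟩,⟨0,0⟩,⟨2,0⟩,⟨2,0⟩],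
  [⟨3,3⟩,⟨1,0⟩,⟨1,1⟩,⟨3,1⟩,⟨2,0⟩,⟨0,1⟩,⟨0,2⟩,⟨1,2⟩,⟨3,0⟩,⟨0,3⟩,⟨0,1⟩,⟨0,1⟩,⟨2,1⟩,⟨0,3⟩,⟨3,0⟩,⟨3,1⟩,⟨0,0⟩,⟨2,3⟩,⟨0,3⟩,⟨1,0⟩,⟨0,0⟩,⟨2,0⟩,⟨2,0⟩],
  [⟨2,3⟩,⟨3,1⟩,⟨1,3⟩,⟨1,0⟩,⟨2,3⟩,⟨3,3⟩,⟨0,1⟩,⟨3,2⟩,⟨1,2⟩,⟨1,3⟩,⟨1,1⟩,⟨1,2⟩,⟨1,1⟩,⟨3,0⟩,⟨1,1⟩,⟨3,1⟩,⟨1,0⟩,⟨3,1⟩,⟨2,1⟩,⟨1,0⟩,⟨1,0⟩,⟨3,0⟩,⟨0,0⟩],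
  [⟨2,2⟩,⟨2,1⟩,⟨3,3⟩,⟨1,2⟩,⟨3,3⟩,⟨1,0⟩,⟨2,1⟩,⟨1,3⟩,⟨0,2⟩,⟨0,2⟩,⟨2,1⟩,⟨1,1⟩,⟨2,1⟩,⟨3,3⟩,⟨1,1⟩,⟨0,1⟩,⟨0,0⟩,⟨0,0⟩,⟨0,3⟩,⟨3,0⟩,⟨1,0⟩,⟨3,0⟩,⟨0,0⟩],
  [⟨1,3⟩,⟨2,3⟩,⟨1,2⟩,⟨2,3⟩,⟨2,3⟩,⟨2,1⟩,⟨0,0⟩,⟨0,3⟩,⟨3,0⟩,⟨2,2⟩,⟨1,2⟩,⟨0,2⟩,⟨2,1⟩,⟨3,0⟩,⟨2,0⟩,⟨1,0⟩,⟨0,0⟩,⟨0,2⟩,⟨1,2⟩,⟨0,0⟩,⟨1,0⟩,⟨0,0⟩,⟨2,0⟩],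
  [⟨2,3⟩,⟨1,0⟩,⟨1,2⟩,⟨1,1⟩,⟨3,0⟩,⟨0,2⟩,⟨1,1⟩,⟨0,1⟩,⟨0,2⟩,⟨0,0⟩,⟨2,2⟩,⟨0,0⟩,⟨3,0⟩,⟨0,0⟩,⟨0,0⟩,⟨1,0⟩,⟨0,0⟩,⟨0,2⟩,⟨1,1⟩,⟨3,0⟩,⟨1,0⟩,⟨0,0⟩,⟨2,0⟩],
  [⟨2,2⟩,⟨2,3⟩,⟨1,2⟩,⟨1,0⟩,⟨1,0⟩,⟨1,1⟩,⟨1,1⟩,⟨0,1⟩,⟨1,3⟩,⟨0,2⟩,⟨1,0⟩,⟨0,1⟩,⟨3,0⟩,⟨0,3⟩,⟨0,0⟩,⟨3,1⟩,⟨1,0⟩,⟨3,2⟩,⟨1,2⟩,⟨0,0⟩,⟨0,0⟩,⟨1,0⟩,⟨2,0⟩],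
  [⟨3,1⟩,⟨0,0⟩,⟨2,2⟩,⟨2,3⟩,⟨0,2⟩,⟨0,3⟩,⟨3,3⟩,⟨2,3⟩,⟨1,1⟩,⟨3,1⟩,⟨3,1⟩,⟨0,1⟩,⟨3,0⟩,⟨3,3⟩,⟨3,1⟩,⟨1,0⟩,⟨0,0⟩,⟨0,3⟩,⟨3,2⟩,⟨2,0⟩,⟨0,0⟩,⟨3,0⟩,⟨0,0⟩],
  [⟨0,2⟩,⟨1,3⟩,⟨2,3⟩,⟨1,0⟩,⟨3,3⟩,⟨2,3⟩,⟨0,2⟩,⟨3,2⟩,⟨1,3⟩,⟨1,1⟩,⟨0,1⟩,⟨3,2⟩,⟨1,0⟩,⟨0,3⟩,⟨3,1⟩,⟨3,1⟩,⟨0,0⟩,⟨0,1⟩,⟨0,3⟩,⟨1,0⟩,⟨0,0⟩,⟨0,0⟩,⟨0,0⟩],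
  [⟨0,0⟩,⟨0,0⟩,⟨0,0⟩,⟨0,0⟩,⟨0,0⟩,⟨0,0⟩,⟨0,0⟩,⟨0,0⟩,⟨0,0⟩,⟨0,0⟩,⟨0,0⟩,⟨0,0⟩,⟨0,0⟩,⟨0,0⟩,⟨0,0⟩,⟨0,0⟩,⟨0,0⟩,⟨0,0⟩,⟨0,3⟩,⟨0,0⟩,⟨0,0⟩,⟨0,0⟩,⟨0,0⟩],
  [⟨1,1⟩,⟨3,1⟩,⟨1,1⟩,⟨2,0⟩,⟨1,1⟩,⟨2,0⟩,⟨2,3⟩,⟨2,3⟩,⟨3,0⟩,⟨3,0⟩,⟨0,1⟩,⟨1,2⟩,⟨2,3⟩,⟨2,3⟩,⟨2,0⟩,⟨3,1⟩,⟨0,0⟩,⟨0,2⟩,⟨3,3⟩,⟨1,0⟩,⟨0,0⟩,⟨0,0⟩,⟨2,0⟩],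
  [⟨2,0⟩,⟨2,0⟩,⟨1,1⟩,⟨3,3⟩,⟨2,0⟩,⟨0,2⟩,⟨3,3⟩,⟨3,3⟩,⟨1,3⟩,⟨3,3⟩,⟨3,3⟩,⟨0,2⟩,⟨0,0⟩,⟨3,3⟩,⟨1,1⟩,⟨3,1⟩,⟨0,0⟩,⟨3,1⟩,⟨1,3⟩,⟨2,0⟩,⟨1,0⟩,⟨0,0⟩,⟨2,0⟩],
  [⟨3,3⟩,⟨1,0⟩,⟨3,1⟩,⟨2,3⟩,⟨0,2⟩,⟨3,1⟩,⟨1,3⟩,⟨3,1⟩,⟨2,2⟩,⟨1,0⟩,⟨0,1⟩,⟨1,1⟩,⟨2,1⟩,⟨2,3⟩,⟨3,0⟩,⟨0,1⟩,⟨1,0⟩,⟨2,1⟩,⟨0,3⟩,⟨3,0⟩,⟨0,0⟩,⟨2,0⟩,⟨0,0⟩],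
  [⟨3,3⟩,⟨0,0⟩,⟨1,2⟩,⟨0,1⟩,⟨0,2⟩,⟨2,3⟩,⟨1,3⟩,⟨2,0⟩,⟨3,1⟩,⟨3,0⟩,⟨1,3⟩,⟨1,0⟩,⟨3,0⟩,⟨3,2⟩,⟨2,0⟩,⟨3,1⟩,⟨1,0⟩,⟨0,3⟩,⟨3,2⟩,⟨2,0⟩,⟨1,0⟩,⟨2,0⟩,⟨3,0⟩],
  [⟨3,2⟩,⟨0,1⟩,⟨1,0⟩,⟨1,2⟩,⟨1,1⟩,⟨0,1⟩,⟨0,2⟩,⟨3,3⟩,⟨3,3⟩,⟨1,3⟩,⟨1,1⟩,⟨3,2⟩,⟨1,2⟩,⟨3,3⟩,⟨2,0⟩,⟨0,1⟩,⟨1,0⟩,⟨2,0⟩,⟨0,0⟩,⟨1,0⟩,⟨1,0⟩,⟨2,0⟩,⟨3,0⟩]]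

/-- Certificate data. -/
def m1 : List (List GaussianInt) :=
  [
  [⟨0,2⟩,⟨2,0⟩,⟨0,2⟩,⟨3,1⟩,⟨2,0⟩,⟨2,0⟩,⟨2,0⟩,⟨3,1⟩,⟨3,3⟩,⟨1,1⟩,⟨3,3⟩,⟨0,0⟩,⟨2,0⟩,⟨0,0⟩,⟨3,1⟩,⟨0,0⟩,⟨0,0⟩,⟨2,2⟩,⟨0,2⟩,⟨2,0⟩,⟨0,0⟩,⟨0,0⟩,⟨0,0⟩],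
  [⟨2,0⟩,⟨2,0⟩,⟨0,2⟩,⟨0,0⟩,⟨3,1⟩,⟨1,1⟩,⟨0,1⟩,⟨2,1⟩,⟨2,1⟩,⟨0,1⟩,⟨1,2⟩,⟨1,0⟩,⟨1,0⟩,⟨3,0⟩,⟨3,1⟩,⟨3,1⟩,⟨0,0⟩,⟨2,2⟩,⟨2,2⟩,⟨0,0⟩,⟨0,0⟩,⟨2,0⟩,⟨2,0⟩],
  [⟨2,2⟩,⟨0,0⟩,⟨2,2⟩,⟨1,1⟩,⟨1,3⟩,⟨1,3⟩,⟨3,2⟩,⟨0,1⟩,⟨0,3⟩,⟨0,1⟩,⟨1,2⟩,⟨0,1⟩,⟨2,3⟩,⟨0,3⟩,⟨0,0⟩,⟨3,1⟩,⟨0,0⟩,⟨0,0⟩,⟨2,0⟩,⟨2,0⟩,⟨0,0⟩,⟨2,0⟩,⟨2,0⟩],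
  [⟨0,2⟩,⟨2,0⟩,⟨0,0⟩,⟨0,1⟩,⟨0,0⟩,⟨1,2⟩,⟨1,0⟩,⟨3,1⟩,⟨3,1⟩,⟨0,3⟩,⟨1,3⟩,⟨3,2⟩,⟨0,1⟩,⟨3,3⟩,⟨0,0⟩,⟨0,1⟩,⟨1,0⟩,⟨2,2⟩,⟨0,0⟩,⟨2,0⟩,⟨0,0⟩,⟨2,0⟩,⟨0,0⟩],
  [⟨1,3⟩,⟨1,3⟩,⟨2,2⟩,⟨1,1⟩,⟨2,0⟩,⟨3,1⟩,⟨1,1⟩,⟨2,2⟩,⟨1,3⟩,⟨2,0⟩,⟨2,0⟩,⟨0,2⟩,⟨1,1⟩,⟨3,3⟩,⟨0,0⟩,⟨0,0⟩,⟨0,0⟩,⟨0,0⟩,⟨0,0⟩,⟨0,0⟩,⟨0,0⟩,⟨0,0⟩,⟨0,0⟩],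
  [⟨1,3⟩,⟨1,3⟩,⟨0,0⟩,⟨2,1⟩,⟨0,2⟩,⟨0,1⟩,⟨2,3⟩,⟨0,0⟩,⟨3,1⟩,⟨3,2⟩,⟨2,0⟩,⟨3,0⟩,⟨3,2⟩,⟨2,2⟩,⟨1,1⟩,⟨0,1⟩,⟨1,0⟩,⟨2,2⟩,⟨0,0⟩,⟨2,0⟩,⟨0,0⟩,⟨2,0⟩,⟨0,0⟩],
  [⟨2,0⟩,⟨0,0⟩,⟨2,2⟩,⟨0,0⟩,⟨1,1⟩,⟨1,3⟩,⟨3,2⟩,⟨0,3⟩,⟨0,1⟩,⟨1,0⟩,⟨1,0⟩,⟨0,3⟩,⟨1,0⟩,⟨0,1⟩,⟨0,0⟩,⟨0,0⟩,⟨0,0⟩,⟨2,2⟩,⟨2,2⟩,⟨0,0⟩,⟨0,0⟩,⟨2,0⟩,⟨2,0⟩],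
  [⟨2,0⟩,⟨2,0⟩,⟨2,2⟩,⟨2,2⟩,⟨3,1⟩,⟨3,3⟩,⟨3,3⟩,⟨1,1⟩,⟨2,0⟩,⟨0,0⟩,⟨0,2⟩,⟨0,0⟩,⟨2,0⟩,⟨0,0⟩,⟨0,0⟩,⟨0,0⟩,⟨0,0⟩,⟨2,2⟩,⟨0,0⟩,⟨0,0⟩,⟨0,0⟩,⟨0,0⟩,⟨0,0⟩],
  [⟨2,0⟩,⟨0,0⟩,⟨0,2⟩,⟨3,3⟩,⟨0,0⟩,⟨2,0⟩,⟨1,2⟩,⟨3,2⟩,⟨0,1⟩,⟨3,2⟩,⟨3,2⟩,⟨3,0⟩,⟨2,3⟩,⟨1,0⟩,⟨3,1⟩,⟨0,0⟩,⟨0,0⟩,⟨2,2⟩,⟨2,0⟩,⟨2,0⟩,⟨0,0⟩,⟨2,0⟩,⟨2,0⟩],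
  [⟨2,2⟩,⟨3,3⟩,⟨3,1⟩,⟨1,2⟩,⟨2,0⟩,⟨3,2⟩,⟨0,0⟩,⟨0,3⟩,⟨2,3⟩,⟨0,0⟩,⟨0,3⟩,⟨2,0⟩,⟨2,0⟩,⟨0,1⟩,⟨0,0⟩,⟨1,0⟩,⟨1,0⟩,⟨0,0⟩,⟨2,2⟩,⟨2,0⟩,⟨0,0⟩,⟨0,0⟩,⟨2,0⟩],
  [⟨2,2⟩,⟨2,0⟩,⟨0,2⟩,⟨0,3⟩,⟨2,0⟩,⟨1,0⟩,⟨0,0⟩,⟨2,3⟩,⟨3,0⟩,⟨2,0⟩,⟨2,1⟩,⟨0,0⟩,⟨2,0⟩,⟨3,0⟩,⟨0,0⟩,⟨0,1⟩,⟨1,0⟩,⟨2,2⟩,⟨2,0⟩,⟨0,0⟩,⟨0,0⟩,⟨0,0⟩,⟨2,0⟩],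
  [⟨2,0⟩,⟨3,3⟩,⟨3,3⟩,⟨0,0⟩,⟨0,2⟩,⟨0,2⟩,⟨3,3⟩,⟨0,0⟩,⟨1,3⟩,⟨2,2⟩,⟨2,0⟩,⟨3,1⟩,⟨3,3⟩,⟨0,0⟩,⟨3,1⟩,⟨3,1⟩,⟨0,0⟩,⟨2,2⟩,⟨0,2⟩,⟨2,0⟩,⟨0,0⟩,⟨0,0⟩,⟨0,0⟩],
  [⟨2,0⟩,⟨1,1⟩,⟨3,3⟩,⟨0,0⟩,⟨1,3⟩,⟨2,0⟩,⟨2,3⟩,⟨0,3⟩,⟨0,3⟩,⟨3,0⟩,⟨2,3⟩,⟨1,0⟩,⟨1,0⟩,⟨3,0⟩,⟨0,0⟩,⟨3,1⟩,⟨0,0⟩,⟨2,2⟩,⟨2,2⟩,⟨0,0⟩,⟨0,0⟩,⟨2,0⟩,⟨2,0⟩],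
  [⟨2,2⟩,⟨1,3⟩,⟨3,3⟩,⟨1,0⟩,⟨3,3⟩,⟨2,1⟩,⟨1,0⟩,⟨1,3⟩,⟨3,1⟩,⟨3,0⟩,⟨2,0⟩,⟨2,3⟩,⟨3,0⟩,⟨1,1⟩,⟨0,0⟩,⟨1,0⟩,⟨1,0⟩,⟨0,0⟩,⟨0,2⟩,⟨0,0⟩,⟨0,0⟩,⟨2,0⟩,⟨0,0⟩],
  [⟨0,0⟩,⟨2,2⟩,⟨2,2⟩,⟨0,3⟩,⟨0,2⟩,⟨2,1⟩,⟨0,2⟩,⟨3,0⟩,⟨1,2⟩,⟨2,0⟩,⟨0,3⟩,⟨0,0⟩,⟨3,1⟩,⟨3,0⟩,⟨3,1⟩,⟨0,1⟩,⟨1,0⟩,⟨2,2⟩,⟨2,0⟩,⟨0,0⟩,⟨0,0⟩,⟨0,0⟩,⟨2,0⟩],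
  [⟨2,0⟩,⟨0,0⟩,⟨2,0⟩,⟨0,1⟩,⟨0,0⟩,⟨1,3⟩,⟨2,3⟩,⟨0,2⟩,⟨0,2⟩,⟨3,1⟩,⟨2,2⟩,⟨3,2⟩,⟨0,1⟩,⟨0,3⟩,⟨2,1⟩,⟨3,1⟩,⟨0,0⟩,⟨0,0⟩,⟨0,0⟩,⟨2,0⟩,⟨0,0⟩,⟨0,0⟩,⟨2,0⟩],
  [⟨1,3⟩,⟨1,1⟩,⟨0,0⟩,⟨1,2⟩,⟨0,2⟩,⟨3,1⟩,⟨0,3⟩,⟨2,2⟩,⟨2,2⟩,⟨0,2⟩,⟨1,3⟩,⟨0,1⟩,⟨2,1⟩,⟨3,0⟩,⟨2,1⟩,⟨0,0⟩,⟨0,0⟩,⟨0,0⟩,⟨2,0⟩,⟨0,0⟩,⟨0,0⟩,⟨0,0⟩,⟨2,0⟩],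
  [⟨2,2⟩,⟨0,2⟩,⟨0,2⟩,⟨2,2⟩,⟨0,2⟩,⟨3,2⟩,⟨3,3⟩,⟨1,1⟩,⟨2,0⟩,⟨1,0⟩,⟨2,2⟩,⟨0,0⟩,⟨0,2⟩,⟨3,0⟩,⟨2,1⟩,⟨0,1⟩,⟨1,0⟩,⟨2,2⟩,⟨0,0⟩,⟨0,0⟩,⟨0,0⟩,⟨2,0⟩,⟨2,0⟩],
  [⟨1,3⟩,⟨3,3⟩,⟨0,0⟩,⟨2,0⟩,⟨2,2⟩,⟨3,2⟩,⟨3,1⟩,⟨0,2⟩,⟨1,1⟩,⟨1,2⟩,⟨0,2⟩,⟨1,3⟩,⟨2,0⟩,⟨0,3⟩,⟨3,0⟩,⟨1,0⟩,⟨1,0⟩,⟨2,2⟩,⟨2,0⟩,⟨2,0⟩,⟨0,0⟩,⟨2,0⟩,⟨2,0⟩]]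

/-- Certificate data. -/
def m2 : List (List GaussianInt) :=
  [
  [⟨1,1⟩,⟨2,2⟩,⟨3,3⟩,⟨0,3⟩,⟨1,3⟩,⟨3,1⟩,⟨0,1⟩,⟨3,3⟩,⟨1,3⟩,⟨0,2⟩,⟨1,1⟩,⟨0,3⟩,⟨0,3⟩,⟨3,2⟩,⟨2,3⟩,⟨0,0⟩,⟨2,0⟩,⟨0,0⟩,⟨0,0⟩,⟨2,0⟩,⟨0,0⟩,⟨0,0⟩,⟨2,0⟩],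
  [⟨2,0⟩,⟨2,0⟩,⟨2,0⟩,⟨2,0⟩,⟨1,0⟩,⟨1,1⟩,⟨1,0⟩,⟨3,1⟩,⟨0,3⟩,⟨0,1⟩,⟨3,2⟩,⟨1,2⟩,⟨2,1⟩,⟨2,0⟩,⟨1,0⟩,⟨3,1⟩,⟨0,0⟩,⟨2,2⟩,⟨2,0⟩,⟨0,0⟩,⟨2,0⟩,⟨2,0⟩,⟨0,0⟩],
  [⟨0,0⟩,⟨2,2⟩,⟨2,2⟩,⟨2,3⟩,⟨3,2⟩,⟨3,3⟩,⟨3,0⟩,⟨2,1⟩,⟨2,2⟩,⟨3,1⟩,⟨0,2⟩,⟨1,0⟩,⟨3,2⟩,⟨0,0⟩,⟨2,0⟩,⟨0,0⟩,⟨0,0⟩,⟨2,2⟩,⟨0,2⟩,⟨2,0⟩,⟨2,0⟩,⟨2,0⟩,⟨2,0⟩],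
  [⟨2,2⟩,⟨1,3⟩,⟨1,3⟩,⟨3,3⟩,⟨1,2⟩,⟨3,0⟩,⟨1,3⟩,⟨1,0⟩,⟨3,2⟩,⟨2,0⟩,⟨1,1⟩,⟨3,0⟩,⟨3,1⟩,⟨0,3⟩,⟨2,0⟩,⟨1,3⟩,⟨0,0⟩,⟨0,2⟩,⟨0,2⟩,⟨2,0⟩,⟨0,0⟩,⟨2,0⟩,⟨2,0⟩],
  [⟨3,0⟩,⟨2,1⟩,⟨1,3⟩,⟨2,2⟩,⟨1,3⟩,⟨0,2⟩,⟨0,0⟩,⟨2,0⟩,⟨3,0⟩,⟨2,1⟩,⟨0,2⟩,⟨0,3⟩,⟨1,3⟩,⟨2,1⟩,⟨3,1⟩,⟨3,0⟩,⟨1,0⟩,⟨2,2⟩,⟨0,2⟩,⟨0,0⟩,⟨0,0⟩,⟨2,0⟩,⟨0,0⟩],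
  [⟨0,1⟩,⟨2,1⟩,⟨2,0⟩,⟨3,0⟩,⟨2,3⟩,⟨1,2⟩,⟨3,2⟩,⟨3,0⟩,⟨0,0⟩,⟨2,1⟩,⟨0,2⟩,⟨0,1⟩,⟨3,2⟩,⟨3,2⟩,⟨2,1⟩,⟨1,0⟩,⟨1,0⟩,⟨0,0⟩,⟨2,0⟩,⟨2,0⟩,⟨2,0⟩,⟨2,0⟩,⟨0,0⟩],
  [⟨1,1⟩,⟨0,2⟩,⟨1,3⟩,⟨0,3⟩,⟨2,1⟩,⟨1,1⟩,⟨0,3⟩,⟨2,0⟩,⟨3,0⟩,⟨1,3⟩,⟨1,0⟩,⟨0,1⟩,⟨3,1⟩,⟨0,2⟩,⟨0,1⟩,⟨1,0⟩,⟨2,0⟩,⟨2,2⟩,⟨2,2⟩,⟨0,0⟩,⟨2,0⟩,⟨2,0⟩,⟨2,0⟩],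
  [⟨1,1⟩,⟨0,0⟩,⟨1,3⟩,⟨0,0⟩,⟨1,2⟩,⟨3,0⟩,⟨0,0⟩,⟨1,3⟩,⟨0,3⟩,⟨3,0⟩,⟨2,3⟩,⟨1,0⟩,⟨2,1⟩,⟨2,1⟩,⟨3,3⟩,⟨0,0⟩,⟨2,0⟩,⟨2,2⟩,⟨2,0⟩,⟨0,0⟩,⟨2,0⟩,⟨2,0⟩,⟨2,0⟩],
  [⟨0,0⟩,⟨2,0⟩,⟨0,2⟩,⟨1,3⟩,⟨1,3⟩,⟨3,0⟩,⟨2,1⟩,⟨2,1⟩,⟨2,1⟩,⟨0,0⟩,⟨1,2⟩,⟨1,3⟩,⟨3,0⟩,⟨2,3⟩,⟨0,0⟩,⟨2,3⟩,⟨0,0⟩,⟨2,0⟩,⟨2,0⟩,⟨0,0⟩,⟨2,0⟩,⟨0,0⟩,⟨2,0⟩],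
  [⟨0,0⟩,⟨0,1⟩,⟨0,1⟩,⟨3,1⟩,⟨3,2⟩,⟨3,3⟩,⟨2,2⟩,⟨0,1⟩,⟨0,2⟩,⟨1,1⟩,⟨3,1⟩,⟨3,1⟩,⟨3,3⟩,⟨0,3⟩,⟨0,1⟩,⟨3,1⟩,⟨2,0⟩,⟨0,2⟩,⟨0,0⟩,⟨0,0⟩,⟨2,0⟩,⟨2,0⟩,⟨2,0⟩],
  [⟨2,0⟩,⟨1,1⟩,⟨3,1⟩,⟨0,3⟩,⟨1,2⟩,⟨1,1⟩,⟨1,2⟩,⟨0,2⟩,⟨2,2⟩,⟨1,0⟩,⟨2,1⟩,⟨1,0⟩,⟨1,2⟩,⟨2,1⟩,⟨0,1⟩,⟨0,1⟩,⟨2,0⟩,⟨0,0⟩,⟨0,0⟩,⟨0,0⟩,⟨0,0⟩,⟨2,0⟩,⟨0,0⟩],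
  [⟨0,2⟩,⟨0,3⟩,⟨0,3⟩,⟨2,1⟩,⟨1,1⟩,⟨3,0⟩,⟨2,1⟩,⟨2,3⟩,⟨1,1⟩,⟨3,3⟩,⟨1,0⟩,⟨0,1⟩,⟨2,3⟩,⟨1,2⟩,⟨2,1⟩,⟨3,3⟩,⟨1,0⟩,⟨0,2⟩,⟨0,2⟩,⟨0,0⟩,⟨2,0⟩,⟨2,0⟩,⟨2,0⟩],
  [⟨2,0⟩,⟨0,3⟩,⟨2,1⟩,⟨3,0⟩,⟨0,3⟩,⟨3,2⟩,⟨1,2⟩,⟨0,1⟩,⟨1,1⟩,⟨3,2⟩,⟨0,3⟩,⟨3,2⟩,⟨2,1⟩,⟨0,0⟩,⟨0,1⟩,⟨2,0⟩,⟨0,0⟩,⟨2,2⟩,⟨0,0⟩,⟨0,0⟩,⟨2,0⟩,⟨0,0⟩,⟨0,0⟩],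
  [⟨1,1⟩,⟨1,0⟩,⟨2,1⟩,⟨2,1⟩,⟨0,0⟩,⟨3,2⟩,⟨1,0⟩,⟨2,0⟩,⟨1,1⟩,⟨3,0⟩,⟨3,1⟩,⟨2,3⟩,⟨2,0⟩,⟨3,0⟩,⟨3,0⟩,⟨2,0⟩,⟨3,0⟩,⟨0,2⟩,⟨2,0⟩,⟨0,0⟩,⟨0,0⟩,⟨0,0⟩,⟨2,0⟩],
  [⟨3,1⟩,⟨3,3⟩,⟨0,0⟩,⟨1,3⟩,⟨1,0⟩,⟨0,1⟩,⟨3,1⟩,⟨0,1⟩,⟨1,3⟩,⟨3,0⟩,⟨0,3⟩,⟨1,3⟩,⟨2,3⟩,⟨3,1⟩,⟨1,0⟩,⟨0,1⟩,⟨0,0⟩,⟨2,2⟩,⟨2,0⟩,⟨0,0⟩,⟨0,0⟩,⟨2,0⟩,⟨2,0⟩],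
  [⟨2,3⟩,⟨3,2⟩,⟨3,3⟩,⟨0,2⟩,⟨1,1⟩,⟨2,0⟩,⟨2,2⟩,⟨3,2⟩,⟨2,1⟩,⟨1,1⟩,⟨3,1⟩,⟨2,3⟩,⟨0,0⟩,⟨3,0⟩,⟨1,2⟩,⟨0,1⟩,⟨2,0⟩,⟨0,0⟩,⟨0,2⟩,⟨2,0⟩,⟨2,0⟩,⟨0,0⟩,⟨0,0⟩],
  [⟨1,3⟩,⟨1,3⟩,⟨2,0⟩,⟨3,2⟩,⟨0,3⟩,⟨0,3⟩,⟨3,1⟩,⟨2,0⟩,⟨2,1⟩,⟨0,0⟩,⟨0,2⟩,⟨3,0⟩,⟨0,0⟩,⟨3,1⟩,⟨3,3⟩,⟨0,0⟩,⟨3,0⟩,⟨0,0⟩,⟨0,2⟩,⟨2,0⟩,⟨2,0⟩,⟨2,0⟩,⟨0,0⟩],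
  [⟨1,0⟩,⟨0,3⟩,⟨1,1⟩,⟨2,1⟩,⟨3,0⟩,⟨2,1⟩,⟨3,3⟩,⟨1,0⟩,⟨1,1⟩,⟨1,3⟩,⟨0,2⟩,⟨2,2⟩,⟨2,0⟩,⟨3,2⟩,⟨2,1⟩,⟨3,0⟩,⟨1,0⟩,⟨2,0⟩,⟨2,0⟩,⟨2,0⟩,⟨2,0⟩,⟨0,0⟩,⟨0,0⟩]]

/-- Certificate data. -/
def m3 : List (List GaussianInt) :=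
  [
  [⟨1,0⟩,⟨0,2⟩,⟨3,0⟩,⟨0,1⟩,⟨1,3⟩,⟨2,1⟩,⟨3,1⟩,⟨3,0⟩,⟨1,1⟩,⟨1,2⟩,⟨2,2⟩,⟨1,2⟩,⟨0,2⟩,⟨3,2⟩,⟨3,0⟩,⟨2,0⟩,⟨1,0⟩,⟨2,2⟩,⟨0,0⟩,⟨0,0⟩,⟨2,0⟩,⟨0,0⟩,⟨0,0⟩],
  [⟨2,0⟩,⟨2,0⟩,⟨3,1⟩,⟨3,2⟩,⟨1,1⟩,⟨3,0⟩,⟨0,2⟩,⟨2,2⟩,⟨2,0⟩,⟨0,0⟩,⟨1,2⟩,⟨3,1⟩,⟨2,2⟩,⟨3,3⟩,⟨1,0⟩,⟨1,0⟩,⟨1,0⟩,⟨3,0⟩,⟨2,2⟩,⟨3,0⟩,⟨1,0⟩,⟨2,0⟩,⟨0,0⟩],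
  [⟨2,1⟩,⟨1,2⟩,⟨2,1⟩,⟨0,2⟩,⟨1,0⟩,⟨1,0⟩,⟨2,2⟩,⟨3,0⟩,⟨1,2⟩,⟨1,0⟩,⟨1,1⟩,⟨1,1⟩,⟨3,1⟩,⟨3,1⟩,⟨2,2⟩,⟨1,0⟩,⟨3,0⟩,⟨1,3⟩,⟨0,3⟩,⟨3,0⟩,⟨2,0⟩,⟨2,0⟩,⟨0,0⟩],
  [⟨2,2⟩,⟨2,2⟩,⟨1,1⟩,⟨1,2⟩,⟨3,0⟩,⟨3,3⟩,⟨2,1⟩,⟨3,0⟩,⟨0,0⟩,⟨3,1⟩,⟨0,0⟩,⟨1,1⟩,⟨2,0⟩,⟨0,3⟩,⟨0,1⟩,⟨3,1⟩,⟨2,0⟩,⟨3,0⟩,⟨2,0⟩,⟨1,0⟩,⟨3,0⟩,⟨0,0⟩,⟨0,0⟩],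
  [⟨1,2⟩,⟨1,1⟩,⟨1,3⟩,⟨0,3⟩,⟨0,0⟩,⟨0,0⟩,⟨2,3⟩,⟨3,3⟩,⟨0,2⟩,⟨2,1⟩,⟨0,1⟩,⟨2,0⟩,⟨0,0⟩,⟨3,0⟩,⟨1,3⟩,⟨1,0⟩,⟨3,0⟩,⟨0,1⟩,⟨2,1⟩,⟨0,0⟩,⟨3,0⟩,⟨0,0⟩,⟨2,0⟩],
  [⟨2,0⟩,⟨2,3⟩,⟨3,0⟩,⟨0,3⟩,⟨2,2⟩,⟨2,2⟩,⟨2,3⟩,⟨0,2⟩,⟨3,2⟩,⟨1,2⟩,⟨1,3⟩,⟨0,2⟩,⟨2,2⟩,⟨2,2⟩,⟨2,0⟩,⟨3,1⟩,⟨2,0⟩,⟨2,1⟩,⟨2,0⟩,⟨3,0⟩,⟨1,0⟩,⟨2,0⟩,⟨2,0⟩],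
  [⟨2,2⟩,⟨0,3⟩,⟨2,0⟩,⟨0,2⟩,⟨2,2⟩,⟨3,0⟩,⟨0,3⟩,⟨3,1⟩,⟨2,0⟩,⟨1,2⟩,⟨2,0⟩,⟨0,0⟩,⟨0,1⟩,⟨1,1⟩,⟨0,1⟩,⟨3,1⟩,⟨0,0⟩,⟨0,0⟩,⟨0,1⟩,⟨1,0⟩,⟨0,0⟩,⟨0,0⟩,⟨0,0⟩],
  [⟨0,0⟩,⟨1,0⟩,⟨0,0⟩,⟨1,3⟩,⟨1,0⟩,⟨1,1⟩,⟨0,1⟩,⟨2,0⟩,⟨3,2⟩,⟨0,2⟩,⟨1,0⟩,⟨2,1⟩,⟨0,0⟩,⟨3,1⟩,⟨2,0⟩,⟨2,1⟩,⟨3,0⟩,⟨1,0⟩,⟨3,2⟩,⟨2,0⟩,⟨3,0⟩,⟨2,0⟩,⟨2,0⟩],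
  [⟨0,2⟩,⟨3,3⟩,⟨3,2⟩,⟨2,2⟩,⟨1,2⟩,⟨3,3⟩,⟨1,1⟩,⟨3,2⟩,⟨1,0⟩,⟨2,2⟩,⟨0,0⟩,⟨0,3⟩,⟨0,3⟩,⟨1,3⟩,⟨3,1⟩,⟨2,2⟩,⟨2,0⟩,⟨3,0⟩,⟨0,1⟩,⟨0,0⟩,⟨1,0⟩,⟨2,0⟩,⟨0,0⟩],
  [⟨3,3⟩,⟨3,2⟩,⟨2,2⟩,⟨0,1⟩,⟨3,1⟩,⟨3,3⟩,⟨0,0⟩,⟨1,3⟩,⟨2,0⟩,⟨1,1⟩,⟨1,1⟩,⟨0,1⟩,⟨0,1⟩,⟨1,2⟩,⟨2,0⟩,⟨0,2⟩,⟨1,0⟩,⟨1,1⟩,⟨3,2⟩,⟨1,0⟩,⟨2,0⟩,⟨0,0⟩,⟨0,0⟩]]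

/-- Certificate data. -/
def m4 : List (List GaussianInt) :=
  [
  [⟨0,3⟩,⟨0,1⟩,⟨1,0⟩,⟨0,0⟩,⟨1,0⟩,⟨2,0⟩,⟨2,1⟩,⟨3,1⟩,⟨1,0⟩,⟨3,2⟩,⟨3,1⟩,⟨2,3⟩,⟨0,3⟩,⟨0,2⟩,⟨3,0⟩,⟨1,2⟩,⟨0,0⟩,⟨1,1⟩,⟨2,1⟩,⟨1,0⟩,⟨0,0⟩,⟨1,0⟩,⟨3,0⟩],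
  [⟨2,3⟩,⟨3,3⟩,⟨0,2⟩,⟨2,1⟩,⟨3,1⟩,⟨0,0⟩,⟨0,1⟩,⟨2,2⟩,⟨0,1⟩,⟨3,2⟩,⟨0,1⟩,⟨1,1⟩,⟨3,0⟩,⟨1,1⟩,⟨2,0⟩,⟨0,1⟩,⟨3,0⟩,⟨3,1⟩,⟨0,3⟩,⟨1,0⟩,⟨0,0⟩,⟨3,0⟩,⟨3,0⟩],
  [⟨3,0⟩,⟨1,1⟩,⟨1,1⟩,⟨2,0⟩,⟨0,3⟩,⟨3,0⟩,⟨2,0⟩,⟨2,3⟩,⟨1,2⟩,⟨2,0⟩,⟨1,3⟩,⟨2,2⟩,⟨2,0⟩,⟨3,2⟩,⟨3,1⟩,⟨3,0⟩,⟨2,0⟩,⟨3,3⟩,⟨0,1⟩,⟨1,0⟩,⟨2,0⟩,⟨1,0⟩,⟨1,0⟩],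
  [⟨1,0⟩,⟨3,3⟩,⟨1,1⟩,⟨3,2⟩,⟨2,2⟩,⟨1,3⟩,⟨3,3⟩,⟨2,1⟩,⟨3,3⟩,⟨0,0⟩,⟨0,3⟩,⟨1,3⟩,⟨3,3⟩,⟨3,0⟩,⟨3,0⟩,⟨3,1⟩,⟨1,0⟩,⟨3,1⟩,⟨0,1⟩,⟨3,0⟩,⟨0,0⟩,⟨3,0⟩,⟨1,0⟩],
  [⟨1,1⟩,⟨1,0⟩,⟨2,2⟩,⟨2,3⟩,⟨1,2⟩,⟨3,1⟩,⟨1,3⟩,⟨0,2⟩,⟨3,3⟩,⟨1,0⟩,⟨2,0⟩,⟨2,0⟩,⟨3,0⟩,⟨3,0⟩,⟨2,0⟩,⟨1,3⟩,⟨1,0⟩,⟨3,0⟩,⟨2,3⟩,⟨2,0⟩,⟨1,0⟩,⟨1,0⟩,⟨3,0⟩],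
  [⟨1,0⟩,⟨3,3⟩,⟨1,1⟩,⟨3,3⟩,⟨1,1⟩,⟨3,3⟩,⟨3,0⟩,⟨0,3⟩,⟨3,3⟩,⟨0,3⟩,⟨0,2⟩,⟨0,2⟩,⟨2,3⟩,⟨3,3⟩,⟨3,0⟩,⟨0,0⟩,⟨1,0⟩,⟨0,0⟩,⟨0,3⟩,⟨3,0⟩,⟨2,0⟩,⟨1,0⟩,⟨3,0⟩],
  [⟨0,1⟩,⟨2,2⟩,⟨3,1⟩,⟨2,2⟩,⟨1,1⟩,⟨2,1⟩,⟨0,3⟩,⟨3,3⟩,⟨0,3⟩,⟨0,0⟩,⟨0,2⟩,⟨3,2⟩,⟨1,2⟩,⟨2,0⟩,⟨0,1⟩,⟨2,2⟩,⟨2,0⟩,⟨2,2⟩,⟨2,3⟩,⟨1,0⟩,⟨0,0⟩,⟨3,0⟩,⟨1,0⟩],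
  [⟨3,2⟩,⟨0,0⟩,⟨2,2⟩,⟨2,0⟩,⟨2,1⟩,⟨3,1⟩,⟨3,2⟩,⟨3,0⟩,⟨1,0⟩,⟨2,1⟩,⟨1,1⟩,⟨2,1⟩,⟨2,2⟩,⟨0,1⟩,⟨2,0⟩,⟨2,2⟩,⟨3,0⟩,⟨0,2⟩,⟨0,3⟩,⟨1,0⟩,⟨0,0⟩,⟨3,0⟩,⟨1,0⟩],
  [⟨2,0⟩,⟨1,1⟩,⟨3,2⟩,⟨0,0⟩,⟨3,3⟩,⟨3,2⟩,⟨0,1⟩,⟨2,1⟩,⟨2,0⟩,⟨0,1⟩,⟨3,0⟩,⟨1,1⟩,⟨3,1⟩,⟨3,0⟩,⟨3,1⟩,⟨3,0⟩,⟨1,0⟩,⟨3,0⟩,⟨3,3⟩,⟨2,0⟩,⟨3,0⟩,⟨0,0⟩,⟨1,0⟩],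
  [⟨3,0⟩,⟨2,2⟩,⟨3,3⟩,⟨1,3⟩,⟨2,0⟩,⟨3,0⟩,⟨2,1⟩,⟨0,1⟩,⟨1,1⟩,⟨3,0⟩,⟨0,2⟩,⟨2,3⟩,⟨1,0⟩,⟨1,3⟩,⟨3,3⟩,⟨1,0⟩,⟨1,0⟩,⟨1,2⟩,⟨1,3⟩,⟨2,0⟩,⟨1,0⟩,⟨0,0⟩,⟨1,0⟩],
  [⟨0,1⟩,⟨2,0⟩,⟨2,0⟩,⟨2,3⟩,⟨2,1⟩,⟨2,3⟩,⟨3,3⟩,⟨1,1⟩,⟨2,1⟩,⟨3,1⟩,⟨0,1⟩,⟨0,1⟩,⟨0,1⟩,⟨2,3⟩,⟨1,0⟩,⟨0,0⟩,⟨1,0⟩,⟨3,2⟩,⟨1,1⟩,⟨2,0⟩,⟨3,0⟩,⟨0,0⟩,⟨1,0⟩],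
  [⟨3,3⟩,⟨1,0⟩,⟨1,2⟩,⟨3,1⟩,⟨2,2⟩,⟨0,0⟩,⟨0,0⟩,⟨3,0⟩,⟨1,0⟩,⟨2,1⟩,⟨3,1⟩,⟨3,2⟩,⟨3,2⟩,⟨3,0⟩,⟨0,0⟩,⟨3,1⟩,⟨3,0⟩,⟨0,1⟩,⟨3,0⟩,⟨3,0⟩,⟨3,0⟩,⟨0,0⟩,⟨3,0⟩],
  [⟨0,3⟩,⟨2,0⟩,⟨2,0⟩,⟨2,3⟩,⟨2,0⟩,⟨2,2⟩,⟨0,2⟩,⟨2,3⟩,⟨1,0⟩,⟨0,3⟩,⟨0,1⟩,⟨1,2⟩,⟨3,3⟩,⟨0,3⟩,⟨2,2⟩,⟨3,3⟩,⟨1,0⟩,⟨2,1⟩,⟨0,1⟩,⟨0,0⟩,⟨1,0⟩,⟨3,0⟩,⟨3,0⟩],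
  [⟨1,3⟩,⟨0,2⟩,⟨1,2⟩,⟨0,0⟩,⟨0,2⟩,⟨1,1⟩,⟨0,3⟩,⟨1,1⟩,⟨1,1⟩,⟨3,0⟩,⟨1,2⟩,⟨3,0⟩,⟨2,1⟩,⟨0,1⟩,⟨1,3⟩,⟨1,0⟩,⟨3,0⟩,⟨2,1⟩,⟨2,3⟩,⟨2,0⟩,⟨3,0⟩,⟨1,0⟩,⟨1,0⟩],
  [⟨3,0⟩,⟨2,2⟩,⟨0,0⟩,⟨3,3⟩,⟨1,1⟩,⟨0,0⟩,⟨3,3⟩,⟨3,0⟩,⟨0,1⟩,⟨0,0⟩,⟨2,3⟩,⟨3,2⟩,⟨2,1⟩,⟨3,3⟩,⟨1,3⟩,⟨2,3⟩,⟨2,0⟩,⟨3,3⟩,⟨2,3⟩,⟨3,0⟩,⟨0,0⟩,⟨3,0⟩,⟨1,0⟩],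
  [⟨3,1⟩,⟨0,2⟩,⟨3,2⟩,⟨0,0⟩,⟨0,2⟩,⟨3,3⟩,⟨0,1⟩,⟨3,3⟩,⟨3,3⟩,⟨1,0⟩,⟨3,2⟩,⟨1,0⟩,⟨2,3⟩,⟨0,3⟩,⟨3,1⟩,⟨3,0⟩,⟨1,0⟩,⟨2,3⟩,⟨2,1⟩,⟨2,0⟩,⟨1,0⟩,⟨3,0⟩,⟨3,0⟩],
  [⟨1,2⟩,⟨0,1⟩,⟨0,0⟩,⟨3,1⟩,⟨1,2⟩,⟨1,3⟩,⟨1,0⟩,⟨2,3⟩,⟨3,0⟩,⟨0,1⟩,⟨2,1⟩,⟨0,3⟩,⟨3,1⟩,⟨1,2⟩,⟨0,0⟩,⟨3,1⟩,⟨0,0⟩,⟨1,2⟩,⟨1,2⟩,⟨2,0⟩,⟨1,0⟩,⟨3,0⟩,⟨1,0⟩],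
  [⟨3,2⟩,⟨2,1⟩,⟨0,1⟩,⟨1,0⟩,⟨3,2⟩,⟨0,3⟩,⟨0,0⟩,⟨3,2⟩,⟨0,2⟩,⟨2,1⟩,⟨3,3⟩,⟨1,3⟩,⟨2,0⟩,⟨3,2⟩,⟨2,1⟩,⟨0,3⟩,⟨0,0⟩,⟨3,1⟩,⟨3,1⟩,⟨0,0⟩,⟨2,0⟩,⟨2,0⟩,⟨0,0⟩],
  [⟨1,2⟩,⟨2,3⟩,⟨0,3⟩,⟨3,0⟩,⟨1,2⟩,⟨0,1⟩,⟨0,0⟩,⟨1,2⟩,⟨0,2⟩,⟨2,3⟩,⟨1,1⟩,⟨3,1⟩,⟨2,0⟩,⟨1,2⟩,⟨2,3⟩,⟨0,1⟩,⟨0,0⟩,⟨1,3⟩,⟨1,3⟩,⟨0,0⟩,⟨2,0⟩,⟨2,0⟩,⟨0,0⟩],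
  [⟨3,2⟩,⟨2,1⟩,⟨0,1⟩,⟨1,0⟩,⟨3,2⟩,⟨0,3⟩,⟨0,0⟩,⟨3,2⟩,⟨0,2⟩,⟨2,1⟩,⟨3,3⟩,⟨1,3⟩,⟨2,0⟩,⟨3,2⟩,⟨2,1⟩,⟨0,3⟩,⟨0,0⟩,⟨3,1⟩,⟨3,1⟩,⟨0,0⟩,⟨2,0⟩,⟨2,0⟩,⟨0,0⟩],
  [⟨2,2⟩,⟨2,2⟩,⟨2,2⟩,⟨2,3⟩,⟨1,0⟩,⟨0,2⟩,⟨2,3⟩,⟨2,1⟩,⟨3,0⟩,⟨1,1⟩,⟨3,3⟩,⟨0,0⟩,⟨2,0⟩,⟨2,2⟩,⟨0,0⟩,⟨2,2⟩,⟨1,0⟩,⟨1,2⟩,⟨2,2⟩,⟨2,0⟩,⟨3,0⟩,⟨2,0⟩,⟨3,0⟩],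
  [⟨0,3⟩,⟨1,0⟩,⟨2,1⟩,⟨0,0⟩,⟨2,2⟩,⟨1,2⟩,⟨0,0⟩,⟨3,3⟩,⟨0,3⟩,⟨0,2⟩,⟨2,3⟩,⟨1,0⟩,⟨0,1⟩,⟨0,3⟩,⟨0,2⟩,⟨2,0⟩,⟨2,0⟩,⟨1,2⟩,⟨2,1⟩,⟨3,0⟩,⟨3,0⟩,⟨1,0⟩,⟨0,0⟩],
  [⟨0,1⟩,⟨3,0⟩,⟨2,3⟩,⟨0,0⟩,⟨2,2⟩,⟨3,2⟩,⟨0,0⟩,⟨1,1⟩,⟨0,1⟩,⟨0,2⟩,⟨2,1⟩,⟨3,0⟩,⟨0,3⟩,⟨0,1⟩,⟨0,2⟩,⟨2,0⟩,⟨2,0⟩,⟨3,2⟩,⟨2,3⟩,⟨1,0⟩,⟨1,0⟩,⟨3,0⟩,⟨0,0⟩],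
  [⟨0,3⟩,⟨1,0⟩,⟨2,1⟩,⟨0,0⟩,⟨2,2⟩,⟨1,2⟩,⟨0,0⟩,⟨3,3⟩,⟨0,3⟩,⟨0,2⟩,⟨2,3⟩,⟨1,0⟩,⟨0,1⟩,⟨0,3⟩,⟨0,2⟩,⟨2,0⟩,⟨2,0⟩,⟨1,2⟩,⟨2,1⟩,⟨3,0⟩,⟨3,0⟩,⟨1,0⟩,⟨0,0⟩],
  [⟨0,1⟩,⟨2,0⟩,⟨0,2⟩,⟨2,0⟩,⟨1,2⟩,⟨0,2⟩,⟨2,2⟩,⟨3,1⟩,⟨2,3⟩,⟨1,3⟩,⟨0,2⟩,⟨1,3⟩,⟨0,0⟩,⟨1,3⟩,⟨3,1⟩,⟨2,1⟩,⟨1,0⟩,⟨1,3⟩,⟨2,3⟩,⟨2,0⟩,⟨0,0⟩,⟨1,0⟩,⟨1,0⟩],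
  [⟨0,3⟩,⟨2,0⟩,⟨0,2⟩,⟨2,0⟩,⟨3,2⟩,⟨0,2⟩,⟨2,2⟩,⟨1,3⟩,⟨2,1⟩,⟨3,1⟩,⟨0,2⟩,⟨3,1⟩,⟨0,0⟩,⟨3,1⟩,⟨1,3⟩,⟨2,3⟩,⟨3,0⟩,⟨3,1⟩,⟨2,1⟩,⟨2,0⟩,⟨0,0⟩,⟨3,0⟩,⟨3,0⟩],
  [⟨2,0⟩,⟨0,0⟩,⟨2,0⟩,⟨3,1⟩,⟨2,0⟩,⟨3,2⟩,⟨3,2⟩,⟨1,3⟩,⟨3,3⟩,⟨3,0⟩,⟨1,3⟩,⟨0,3⟩,⟨3,0⟩,⟨0,0⟩,⟨3,0⟩,⟨0,0⟩,⟨3,0⟩,⟨1,0⟩,⟨0,2⟩,⟨2,0⟩,⟨0,0⟩,⟨0,0⟩,⟨2,0⟩],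
  [⟨3,2⟩,⟨2,1⟩,⟨1,2⟩,⟨1,0⟩,⟨3,0⟩,⟨2,0⟩,⟨0,2⟩,⟨2,1⟩,⟨1,2⟩,⟨2,3⟩,⟨1,1⟩,⟨3,1⟩,⟨3,2⟩,⟨3,0⟩,⟨2,3⟩,⟨2,3⟩,⟨2,0⟩,⟨1,1⟩,⟨0,3⟩,⟨0,0⟩,⟨2,0⟩,⟨1,0⟩,⟨3,0⟩]]

/-- Certificate data. -/
def k1 : List (List GaussianInt) :=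
  [
  [⟨2,2⟩,⟨2,2⟩,⟨0,2⟩,⟨1,3⟩,⟨3,1⟩,⟨3,2⟩,⟨0,0⟩,⟨1,0⟩,⟨1,3⟩,⟨0,2⟩,⟨2,0⟩,⟨0,0⟩,⟨1,2⟩,⟨2,2⟩,⟨3,0⟩,⟨3,3⟩,⟨2,0⟩,⟨2,0⟩,⟨2,0⟩,⟨2,0⟩,⟨2,0⟩,⟨0,0⟩,⟨2,0⟩],
  [⟨0,2⟩,⟨2,2⟩,⟨0,0⟩,⟨3,1⟩,⟨0,2⟩,⟨1,3⟩,⟨0,1⟩,⟨2,0⟩,⟨3,1⟩,⟨0,1⟩,⟨2,0⟩,⟨3,2⟩,⟨0,3⟩,⟨3,3⟩,⟨3,3⟩,⟨2,2⟩,⟨2,0⟩,⟨0,2⟩,⟨2,0⟩,⟨2,0⟩,⟨2,0⟩,⟨0,0⟩,⟨2,0⟩],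
  [⟨2,0⟩,⟨1,3⟩,⟨1,1⟩,⟨1,0⟩,⟨3,0⟩,⟨2,2⟩,⟨1,0⟩,⟨3,0⟩,⟨0,1⟩,⟨1,0⟩,⟨0,3⟩,⟨2,2⟩,⟨3,2⟩,⟨2,0⟩,⟨2,0⟩,⟨0,0⟩,⟨0,0⟩,⟨0,0⟩,⟨0,0⟩,⟨2,0⟩,⟨0,0⟩,⟨0,0⟩,⟨2,0⟩],
  [⟨1,3⟩,⟨1,1⟩,⟨2,0⟩,⟨1,3⟩,⟨2,0⟩,⟨0,2⟩,⟨2,3⟩,⟨0,0⟩,⟨2,3⟩,⟨1,1⟩,⟨1,2⟩,⟨0,2⟩,⟨3,0⟩,⟨0,0⟩,⟨2,2⟩,⟨2,2⟩,⟨0,0⟩,⟨2,2⟩,⟨0,0⟩,⟨0,0⟩,⟨2,0⟩,⟨2,0⟩,⟨2,0⟩],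
  [⟨1,3⟩,⟨3,3⟩,⟨2,2⟩,⟨3,2⟩,⟨0,3⟩,⟨0,0⟩,⟨0,2⟩,⟨1,0⟩,⟨2,3⟩,⟨2,0⟩,⟨3,0⟩,⟨1,0⟩,⟨2,0⟩,⟨0,0⟩,⟨0,0⟩,⟨0,0⟩,⟨0,0⟩,⟨0,0⟩,⟨0,0⟩,⟨2,0⟩,⟨0,0⟩,⟨2,0⟩,⟨0,0⟩],
  [⟨2,0⟩,⟨0,1⟩,⟨1,0⟩,⟨0,2⟩,⟨2,0⟩,⟨3,2⟩,⟨1,2⟩,⟨0,3⟩,⟨2,0⟩,⟨0,1⟩,⟨1,0⟩,⟨0,0⟩,⟨2,0⟩,⟨2,3⟩,⟨2,2⟩,⟨0,3⟩,⟨3,0⟩,⟨1,0⟩,⟨2,0⟩,⟨3,0⟩,⟨3,0⟩,⟨0,0⟩,⟨2,0⟩],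
  [⟨2,0⟩,⟨0,3⟩,⟨0,1⟩,⟨0,3⟩,⟨2,2⟩,⟨2,3⟩,⟨3,3⟩,⟨3,0⟩,⟨1,0⟩,⟨0,0⟩,⟨3,1⟩,⟨2,2⟩,⟨2,0⟩,⟨2,0⟩,⟨2,0⟩,⟨2,2⟩,⟨2,0⟩,⟨0,2⟩,⟨2,0⟩,⟨0,0⟩,⟨2,0⟩,⟨0,0⟩,⟨0,0⟩],
  [⟨0,3⟩,⟨2,0⟩,⟨0,3⟩,⟨2,1⟩,⟨2,3⟩,⟨2,3⟩,⟨1,0⟩,⟨1,0⟩,⟨2,0⟩,⟨2,1⟩,⟨1,3⟩,⟨2,3⟩,⟨2,0⟩,⟨0,0⟩,⟨0,0⟩,⟨0,0⟩,⟨1,0⟩,⟨0,0⟩,⟨0,0⟩,⟨0,0⟩,⟨0,0⟩,⟨0,0⟩,⟨0,0⟩],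
  [⟨1,3⟩,⟨2,0⟩,⟨1,3⟩,⟨2,3⟩,⟨0,1⟩,⟨2,1⟩,⟨3,0⟩,⟨3,0⟩,⟨3,0⟩,⟨0,0⟩,⟨2,1⟩,⟨0,0⟩,⟨2,2⟩,⟨0,0⟩,⟨0,0⟩,⟨0,0⟩,⟨3,0⟩,⟨2,2⟩,⟨0,2⟩,⟨0,0⟩,⟨0,0⟩,⟨0,0⟩,⟨2,0⟩],
  [⟨3,0⟩,⟨0,0⟩,⟨2,1⟩,⟨2,2⟩,⟨1,3⟩,⟨3,3⟩,⟨3,2⟩,⟨0,3⟩,⟨2,1⟩,⟨2,1⟩,⟨0,0⟩,⟨3,3⟩,⟨0,1⟩,⟨3,3⟩,⟨0,1⟩,⟨2,1⟩,⟨1,0⟩,⟨3,0⟩,⟨0,2⟩,⟨3,0⟩,⟨3,0⟩,⟨0,0⟩,⟨0,0⟩],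
  [⟨0,2⟩,⟨2,2⟩,⟨0,0⟩,⟨3,0⟩,⟨1,0⟩,⟨2,0⟩,⟨1,2⟩,⟨3,1⟩,⟨3,1⟩,⟨0,1⟩,⟨0,0⟩,⟨3,2⟩,⟨0,3⟩,⟨0,2⟩,⟨3,0⟩,⟨0,0⟩,⟨3,0⟩,⟨2,0⟩,⟨2,2⟩,⟨2,0⟩,⟨2,0⟩,⟨2,0⟩,⟨2,0⟩],
  [⟨2,2⟩,⟨0,0⟩,⟨0,2⟩,⟨0,3⟩,⟨0,0⟩,⟨2,3⟩,⟨2,2⟩,⟨2,3⟩,⟨2,1⟩,⟨3,1⟩,⟨1,1⟩,⟨2,0⟩,⟨0,0⟩,⟨2,0⟩,⟨2,2⟩,⟨2,0⟩,⟨0,0⟩,⟨2,0⟩,⟨0,0⟩,⟨2,0⟩,⟨2,0⟩,⟨0,0⟩,⟨0,0⟩],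
  [⟨1,1⟩,⟨1,1⟩,⟨0,2⟩,⟨3,3⟩,⟨2,3⟩,⟨2,3⟩,⟨3,2⟩,⟨2,0⟩,⟨2,3⟩,⟨2,2⟩,⟨0,1⟩,⟨0,1⟩,⟨0,0⟩,⟨2,2⟩,⟨3,0⟩,⟨2,2⟩,⟨1,0⟩,⟨2,0⟩,⟨0,0⟩,⟨2,0⟩,⟨2,0⟩,⟨2,0⟩,⟨2,0⟩],
  [⟨2,2⟩,⟨1,1⟩,⟨1,1⟩,⟨3,0⟩,⟨1,3⟩,⟨2,3⟩,⟨2,3⟩,⟨0,1⟩,⟨0,3⟩,⟨1,0⟩,⟨3,2⟩,⟨1,2⟩,⟨1,1⟩,⟨2,0⟩,⟨3,0⟩,⟨2,0⟩,⟨3,0⟩,⟨2,0⟩,⟨0,0⟩,⟨0,0⟩,⟨2,0⟩,⟨0,0⟩,⟨2,0⟩],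
  [⟨3,2⟩,⟨0,0⟩,⟨2,3⟩,⟨3,2⟩,⟨0,3⟩,⟨2,3⟩,⟨1,1⟩,⟨3,3⟩,⟨1,3⟩,⟨1,2⟩,⟨2,2⟩,⟨0,0⟩,⟨0,2⟩,⟨1,1⟩,⟨3,1⟩,⟨2,1⟩,⟨3,0⟩,⟨3,0⟩,⟨0,0⟩,⟨1,0⟩,⟨3,0⟩,⟨2,0⟩,⟨2,0⟩],
  [⟨3,2⟩,⟨0,1⟩,⟨3,1⟩,⟨2,2⟩,⟨1,1⟩,⟨3,0⟩,⟨1,2⟩,⟨1,1⟩,⟨2,0⟩,⟨2,2⟩,⟨1,1⟩,⟨3,3⟩,⟨0,0⟩,⟨1,0⟩,⟨3,0⟩,⟨0,0⟩,⟨0,0⟩,⟨0,0⟩,⟨2,2⟩,⟨0,0⟩,⟨0,0⟩,⟨0,0⟩,⟨0,0⟩],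
  [⟨3,0⟩,⟨0,2⟩,⟨1,0⟩,⟨3,2⟩,⟨2,2⟩,⟨1,3⟩,⟨3,1⟩,⟨3,1⟩,⟨1,3⟩,⟨3,2⟩,⟨3,3⟩,⟨1,0⟩,⟨1,3⟩,⟨3,3⟩,⟨0,0⟩,⟨1,3⟩,⟨1,0⟩,⟨0,2⟩,⟨0,0⟩,⟨0,0⟩,⟨2,0⟩,⟨2,0⟩,⟨0,0⟩],
  [⟨2,0⟩,⟨2,3⟩,⟨2,1⟩,⟨3,0⟩,⟨1,2⟩,⟨3,1⟩,⟨0,0⟩,⟨3,3⟩,⟨1,0⟩,⟨0,1⟩,⟨3,2⟩,⟨1,0⟩,⟨0,2⟩,⟨3,3⟩,⟨1,0⟩,⟨2,2⟩,⟨3,0⟩,⟨0,0⟩,⟨2,0⟩,⟨0,0⟩,⟨0,0⟩,⟨2,0⟩,⟨0,0⟩],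
  [⟨3,2⟩,⟨3,3⟩,⟨2,1⟩,⟨3,0⟩,⟨3,1⟩,⟨1,1⟩,⟨1,0⟩,⟨1,1⟩,⟨2,2⟩,⟨3,1⟩,⟨0,0⟩,⟨2,3⟩,⟨3,0⟩,⟨2,1⟩,⟨1,0⟩,⟨2,2⟩,⟨0,0⟩,⟨0,0⟩,⟨0,0⟩,⟨2,0⟩,⟨2,0⟩,⟨2,0⟩,⟨0,0⟩],
  [⟨0,0⟩,⟨0,2⟩,⟨0,0⟩,⟨0,0⟩,⟨0,1⟩,⟨0,0⟩,⟨1,0⟩,⟨1,3⟩,⟨2,3⟩,⟨1,0⟩,⟨3,0⟩,⟨0,2⟩,⟨3,3⟩,⟨1,1⟩,⟨1,0⟩,⟨0,1⟩,⟨1,0⟩,⟨0,0⟩,⟨0,2⟩,⟨0,0⟩,⟨0,0⟩,⟨0,0⟩,⟨2,0⟩],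
  [⟨0,3⟩,⟨2,0⟩,⟨1,2⟩,⟨3,0⟩,⟨0,1⟩,⟨1,1⟩,⟨1,3⟩,⟨1,3⟩,⟨0,1⟩,⟨3,0⟩,⟨0,3⟩,⟨0,2⟩,⟨3,3⟩,⟨0,2⟩,⟨0,0⟩,⟨3,1⟩,⟨1,0⟩,⟨1,0⟩,⟨0,0⟩,⟨1,0⟩,⟨1,0⟩,⟨0,0⟩,⟨2,0⟩]]

/-- Certificate data. -/
def k2 : List (List GaussianInt) :=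
  [
  [⟨2,3⟩,⟨3,3⟩,⟨2,1⟩,⟨3,1⟩,⟨0,1⟩,⟨1,3⟩,⟨3,3⟩,⟨0,3⟩,⟨0,3⟩,⟨1,2⟩,⟨3,1⟩,⟨0,0⟩,⟨2,2⟩,⟨2,0⟩,⟨1,0⟩,⟨2,0⟩,⟨1,0⟩,⟨1,0⟩,⟨0,2⟩,⟨3,0⟩,⟨3,0⟩,⟨2,0⟩,⟨0,0⟩],
  [⟨0,0⟩,⟨1,0⟩,⟨2,2⟩,⟨0,2⟩,⟨0,3⟩,⟨0,0⟩,⟨1,1⟩,⟨2,0⟩,⟨3,3⟩,⟨2,2⟩,⟨2,3⟩,⟨3,1⟩,⟨2,0⟩,⟨1,3⟩,⟨3,2⟩,⟨0,2⟩,⟨2,0⟩,⟨3,1⟩,⟨2,1⟩,⟨3,0⟩,⟨2,0⟩,⟨0,0⟩,⟨2,0⟩],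
  [⟨2,0⟩,⟨2,0⟩,⟨2,0⟩,⟨1,2⟩,⟨3,1⟩,⟨0,2⟩,⟨1,1⟩,⟨2,3⟩,⟨2,2⟩,⟨3,3⟩,⟨2,1⟩,⟨1,2⟩,⟨1,1⟩,⟨0,3⟩,⟨0,0⟩,⟨0,0⟩,⟨3,0⟩,⟨0,0⟩,⟨2,2⟩,⟨2,0⟩,⟨2,0⟩,⟨0,0⟩,⟨2,0⟩],
  [⟨0,0⟩,⟨1,1⟩,⟨3,1⟩,⟨3,0⟩,⟨0,1⟩,⟨2,0⟩,⟨2,3⟩,⟨2,2⟩,⟨2,0⟩,⟨3,2⟩,⟨0,1⟩,⟨2,1⟩,⟨3,2⟩,⟨2,3⟩,⟨0,0⟩,⟨0,0⟩,⟨2,0⟩,⟨0,0⟩,⟨0,2⟩,⟨2,0⟩,⟨2,0⟩,⟨0,0⟩,⟨2,0⟩],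
  [⟨3,1⟩,⟨2,0⟩,⟨1,1⟩,⟨2,3⟩,⟨0,0⟩,⟨0,1⟩,⟨3,1⟩,⟨0,0⟩,⟨2,3⟩,⟨3,0⟩,⟨0,2⟩,⟨2,2⟩,⟨1,0⟩,⟨0,1⟩,⟨1,0⟩,⟨2,2⟩,⟨1,0⟩,⟨2,2⟩,⟨0,0⟩,⟨0,0⟩,⟨2,0⟩,⟨2,0⟩,⟨2,0⟩],
  [⟨3,2⟩,⟨2,0⟩,⟨3,0⟩,⟨2,1⟩,⟨1,1⟩,⟨0,0⟩,⟨2,2⟩,⟨1,0⟩,⟨1,3⟩,⟨0,2⟩,⟨2,2⟩,⟨3,0⟩,⟨0,2⟩,⟨1,3⟩,⟨1,3⟩,⟨3,2⟩,⟨0,0⟩,⟨0,0⟩,⟨2,0⟩,⟨2,0⟩,⟨2,0⟩,⟨0,0⟩,⟨2,0⟩],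
  [⟨0,2⟩,⟨0,1⟩,⟨2,1⟩,⟨3,2⟩,⟨2,2⟩,⟨1,2⟩,⟨2,1⟩,⟨3,0⟩,⟨0,2⟩,⟨3,2⟩,⟨0,2⟩,⟨0,1⟩,⟨3,3⟩,⟨3,2⟩,⟨2,3⟩,⟨0,1⟩,⟨0,0⟩,⟨3,3⟩,⟨1,2⟩,⟨2,0⟩,⟨2,0⟩,⟨0,0⟩,⟨1,0⟩]]

/-- Certificate data. -/
def piv1 : List ℕ :=
  [0, 1, 2, 4, 5, 8, 12, 16, 20]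

/-- Certificate data. -/
def row1 : List ℕ :=
  [262581449, 111986186, 101345996, 90885264, 174771296, 251662080, 251719680, 252641280, 267386880]

/-- Certificate data. -/
def piv2 : List ℕ :=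
  [0, 1, 2, 4, 5, 8, 12, 16, 20, 24]

/-- Certificate data. -/
def row2 : List ℕ :=
  [10923209, 111986186, 101345996, 174771344, 174771296, 3840, 61440, 983040, 15728640, 251658240]

/-- Certificate data. -/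
def mask1 : List ℕ :=
  [15, 101, 149, 774, 1331, 2357, 12293, 20534, 36915, 196661, 327683, 589878, 3145779, 5242928, 9437187, 17895697, 34672935, 68227351, 135336225]

/-- Certificate data. -/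
def mask2 : List ℕ :=
  [15, 101, 149, 774, 1331, 2357, 12293, 20534, 36915, 196661, 327683, 589878, 3145779, 5242928, 9437187, 50331702, 83886086, 150994992]

/-- Certificate data. -/
def mask3 : List ℕ :=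
  [15, 240, 3840, 61440, 983040, 5657398, 10900278, 53871973, 87253078, 151348531]

/-- Certificate data. -/
def sup1 : List ℕ :=
  [251658255, 251658480, 255, 4080, 3855, 251662080, 65280, 61680, 61455, 251719680, 1044480, 986880, 983280, 983055, 252641280, 16711680, 15790080, 15732480, 15728880, 15728655, 267386880]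

/-- Certificate data. -/
def sup2 : List ℕ :=
  [15, 240, 3840, 61440, 983040, 15728640, 251658240]

end Cfsg.Agent.RuLat
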