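import Cfsg.Prelude.Def_Spor_Ru
import Cfsg.Agent.Lib.RuLat.Data

/-! The minimum norm of the Rudvalis lattice. -/

set_option autoImplicit false
set_option maxRecDepth 100000

namespace Cfsg.Agent.RuLat

open Cfsg.Spor Finset

/-- Position of a coordinate. -/
abbrev ix (p : RuIdx) : ℕ := p.1.val * 4 + p.2.val

/-- The generators over the Gaussian integers. -/
def g (j : Fin 23) : RuVec := fun p => (gens.getD j.val []).getD (ix p) 0

/-- A coefficient of a certificate. -/
def coef (C : List (List GaussianInt)) (r : ℕ) (j : Fin 23) : GaussianInt := (C.getD r []).getD j.val 0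

/-- A combination of the generators. -/
def comb (c : Fin 23 → GaussianInt) : RuVec := fun p => ∑ j, c j * g j p

/-- Congruent to zero modulo four. -/
abbrev D4 (z : GaussianInt) : Prop := z.re % 4 = 0 ∧ z.im % 4 = 0

theorem d4 {z : GaussianInt} (h : D4 z) : (4 : GaussianInt) ∣ z := by
  have := (Zsqrtd.intCast_dvd (d := -1) 4 z).mpr ⟨Int.dvd_of_emod_eq_zero h.1, Int.dvd_of_emod_eq_zero h.2⟩
  simpa using this

/-- The module generated modulo four. -/
def Mod4 : AddSubgroup RuVec where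
  carrier := {x | ∃ c : Fin 23 → GaussianInt, ∀ p, (4 : GaussianInt) ∣ x p - comb c p}
  zero_mem' := ⟨0, fun p => by simp [comb]⟩
  add_mem' := by
    rintro x y ⟨c, hc⟩ ⟨e, he⟩
    refine ⟨c + e, fun p => ?_⟩
    have : (x + y) p - comb (c + e) p = (x p - comb c p) + (y p - comb e p) := by
      simp [comb, add_mul, sum_add_distrib]; ring
    rw [this]; exact dvd_add (hc p) (he p)
  neg_mem' := by
    rintro x ⟨c, hc⟩
    refine ⟨-c, fun p => ?_⟩
    have : (-x) p - comb (-c) p = -(x p - comb c p) := by simp [comb]; ring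
    rw [this]; exact dvd_neg.mpr (hc p)

theorem mem_op (o : RuVec → RuVec) (u : RuIdx → GaussianInt) (π : RuIdx → RuIdx)
    (ho : ∀ x p, o x p = u p * x (π p)) (C : List (List GaussianInt))
    (hC : ∀ j p, D4 (o (g j) p - comb (coef C (Fin.val j)) p)) {x : RuVec} (hx : x ∈ Mod4) : o x ∈ Mod4 := by
  obtain ⟨c, hc⟩ := hx
  refine ⟨fun k => ∑ j, c j * coef C (Fin.val j) k, fun p => ?_⟩
  have : o x p - comb (fun k => ∑ j, c j * coef C (Fin.val j) k) p =
      u p * (x (π p) - comb c (π p)) + ∑ j, c j * (o (g j) p - comb (coef C (Fin.val j)) p) := by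
    have h1 : comb (fun k => ∑ j, c j * coef C (Fin.val j) k) p = ∑ j, c j * comb (coef C (Fin.val j)) p := by
      simp only [comb, Finset.sum_mul, Finset.mul_sum]
      rw [Finset.sum_comm]
      exact sum_congr rfl fun j _ => sum_congr rfl fun k _ => by ring
    rw [h1, ho]
    simp only [mul_sub, sum_sub_distrib, ho]
    have h2 : u p * comb c (π p) = ∑ j, c j * (u p * g j (π p)) := by
      simp only [comb, Finset.mul_sum]
      exact sum_congr rfl fun j _ => by ring
    rw [h2]; ring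
  rw [this]
  exact dvd_add (dvd_mul_of_dvd_right (hc _) _) (dvd_sum fun j _ => dvd_mul_of_dvd_right (d4 (hC j p)) _)

/-- The units of right multiplication by j. -/
def rjU (p : RuIdx) : GaussianInt := ![gI, gI, 1, -1] p.2
/-- The coordinates of right multiplication by j. -/
def rjP (p : RuIdx) : RuIdx := (p.1, ![1, 0, 3, 2] p.2)
/-- The units of right multiplication by k. -/
def rkU (p : RuIdx) : GaussianInt := ![gI, -1, gI, 1] p.2
/-- The coordinates of right multiplication by k. -/
def rkP (p : RuIdx) : RuIdx := (p.1, ![2, 3, 0, 1] p.2)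
/-- The units of the sign change. -/
def sgU (p : RuIdx) : GaussianInt := if p.1 = 0 ∨ p.1 = 3 ∨ p.1 = 5 ∨ p.1 = 6 then -1 else 1
/-- The coordinates of the shift. -/
def shP (p : RuIdx) : RuIdx := (p.1 + 1, p.2)

theorem rj_eq (x : RuVec) (p : RuIdx) : ruRj x p = rjU p * x (rjP p) := by
  obtain ⟨n, t⟩ := p; fin_cases t <;> simp [ruRj, rjU, rjP]
theorem rk_eq (x : RuVec) (p : RuIdx) : ruRk x p = rkU p * x (rkP p) := by
  obtain ⟨n, t⟩ := p; fin_cases t <;> simp [ruRk, rkU, rkP]
theorem sg_eq (x : RuVec) (p : RuIdx) : ruSign x p = sgU p * x (id p) := by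
  simp only [ruSign, sgU, id]; split_ifs <;> simp
theorem sh_eq (x : RuVec) (p : RuIdx) : ruShift x p = 1 * x (shP p) := (one_mul _).symm

theorem rj_cert : ∀ j p, D4 (ruRj (g j) p - comb (coef rjC (Fin.val j)) p) := by decide +kernel
theorem rk_cert : ∀ j p, D4 (ruRk (g j) p - comb (coef rkC (Fin.val j)) p) := by decide +kernel
theorem sg_cert : ∀ j p, D4 (ruSign (g j) p - comb (coef sgC (Fin.val j)) p) := by decide +kernel
theorem sh_cert : ∀ j p, D4 (ruShift (g j) p - comb (coef shC (Fin.val j)) p) := by decide +kernel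
theorem tab_cert : ∀ r : Fin 20, ∀ p, D4 ((ruTable.getD r.val 0) p - comb (coef tabC r.val) p) := by
  decide +kernel

theorem table_cases {v : RuVec} (hv : v ∈ ruTable) : ∃ r : Fin 20, v = ruTable.getD r.val 0 := by
  obtain ⟨n, hn, rfl⟩ := List.mem_iff_getElem.mp hv
  have : ruTable.length = 20 := by decide +kernel
  exact ⟨⟨n, by omega⟩, (List.getD_eq_getElem _ _ hn).symm⟩

theorem le_mod4 : ruLattice ≤ Mod4 := by
  refine sInf_le ⟨fun v hv => ?_, fun v hv => ⟨?_, ?_, ?_, ?_, ?_⟩⟩
  · obtain ⟨r, rfl⟩ := table_cases hv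
    exact ⟨coef tabC r.val, fun p => d4 (tab_cert r p)⟩
  · obtain ⟨c, hc⟩ := hv
    refine ⟨fun j => gI * c j, fun p => ?_⟩
    have : (gI • v) p - comb (fun j => gI * c j) p = gI * (v p - comb c p) := by
      simp [comb, Finset.mul_sum, mul_sub, mul_assoc]
    rw [this]; exact dvd_mul_of_dvd_right (hc p) _
  · exact mem_op _ _ _ rj_eq _ rj_cert hv
  · exact mem_op _ _ _ rk_eq _ rk_cert hv
  · exact mem_op _ _ _ sg_eq _ sg_cert hv
  · exact mem_op _ _ _ sh_eq _ sh_cert hv

/-- The Hermitian product. -/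
def herm (x y : RuVec) : GaussianInt := ∑ p, star (x p) * y p

theorem gram : ∀ i j, D4 (herm (g i) (g j)) := by decide +kernel

theorem herm_dvd {x y : RuVec} (hx : x ∈ Mod4) (hy : y ∈ Mod4) : (4 : GaussianInt) ∣ herm x y := by
  obtain ⟨c, hc⟩ := hx
  obtain ⟨e, he⟩ := hy
  have : herm x y = (∑ p, star (x p - comb c p) * y p) + (∑ p, star (comb c p) * (y p - comb e p)) +
      ∑ i, ∑ j, star (c i) * e j * herm (g i) (g j) := by
    have h1 : (∑ i, ∑ j, star (c i) * e j * herm (g i) (g j)) = ∑ p, star (comb c p) * comb e p := by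
      simp only [herm, comb, star_sum, star_mul', Finset.sum_mul, Finset.mul_sum]
      conv_rhs => rw [Finset.sum_comm]
      rw [Finset.sum_comm]
      refine sum_congr rfl fun j _ => ?_
      rw [Finset.sum_comm]
      exact sum_congr rfl fun p _ => sum_congr rfl fun i _ => by ring
    rw [h1, herm, ← sum_add_distrib, ← sum_add_distrib]
    exact sum_congr rfl fun p _ => by rw [star_sub]; ring
  rw [this]
  refine dvd_add (dvd_add (dvd_sum fun p _ => ?_) (dvd_sum fun p _ => dvd_mul_of_dvd_right (he p) _))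
    (dvd_sum fun i _ => dvd_sum fun j _ => dvd_mul_of_dvd_right (d4 (gram i j)) _)
  obtain ⟨d, hd⟩ := hc p
  exact dvd_mul_of_dvd_left ⟨star d, by rw [hd, star_mul']; rw [star_ofNat]⟩ _

/-- The real bilinear form. -/
def form (a x : RuVec) : ℤ := ∑ p, ((a p).re * (x p).re + (a p).im * (x p).im)

theorem form_dvd {a x : RuVec} (ha : a ∈ Mod4) (hx : x ∈ Mod4) : (4 : ℤ) ∣ form a x := by
  have h : ((4 : ℤ) : GaussianInt) ∣ herm a x := by simpa using herm_dvd ha hx
  have h2 := ((Zsqrtd.intCast_dvd _ _).mp h).1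
  have e : ∀ s : Finset RuIdx, (∑ p ∈ s, star (a p) * x p).re = ∑ p ∈ s, ((a p).re * (x p).re + (a p).im * (x p).im) := by
    intro s
    induction s using Finset.induction_on with
    | empty => simp
    | insert q s hq ih => simp [sum_insert hq, ih]
  rwa [herm, e] at h2

theorem comb_mem (c : Fin 23 → GaussianInt) : comb c ∈ Mod4 := ⟨c, fun p => by simp⟩

theorem norm_op (o : RuVec → RuVec) (u : RuIdx → GaussianInt) (π : RuIdx → RuIdx)
    (ho : ∀ x p, o x p = u p * x (π p)) (hu : ∀ p, (u p).norm = 1) (hπ : Function.Bijective π) (x : RuVec) :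
    ruNorm (o x) = ruNorm x :=
  Fintype.sum_bijective π hπ _ _ fun p => by rw [ho, Zsqrtd.norm_mul, hu, one_mul]

theorem norm_add (x y : RuVec) : ruNorm (x + y) = ruNorm x + ruNorm y + 2 * form x y := by
  simp only [ruNorm, form, Finset.mul_sum, ← sum_add_distrib]
  exact sum_congr rfl fun p _ => by simp [Zsqrtd.norm_def]; ring

theorem eight_dvd {x : RuVec} (hx : x ∈ ruLattice) : (8 : ℤ) ∣ ruNorm x := by
  let S : AddSubgroup RuVec :=
    { carrier := {v | v ∈ Mod4 ∧ (8 : ℤ) ∣ ruNorm v}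
      zero_mem' := ⟨zero_mem _, by simp [ruNorm]⟩
      add_mem' := by
        rintro v w ⟨hv, hv8⟩ ⟨hw, hw8⟩
        refine ⟨add_mem hv hw, ?_⟩
        rw [norm_add]
        exact dvd_add (dvd_add hv8 hw8) (mul_dvd_mul_left 2 (form_dvd hv hw))
      neg_mem' := by
        rintro v ⟨hv, hv8⟩
        refine ⟨neg_mem hv, ?_⟩
        have : ruNorm (-v) = ruNorm v := by simp [ruNorm, Zsqrtd.norm_neg]
        rwa [this] }
  have hS : S ∈ ruClosed := by
    refine ⟨fun v hv => ?_, fun v hv => ?_⟩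
    · obtain ⟨r, rfl⟩ := table_cases hv
      refine ⟨⟨coef tabC r.val, fun p => d4 (tab_cert r p)⟩, ?_⟩
      revert r
      have : ∀ r : Fin 20, ruNorm (ruTable.getD r.val 0) % 8 = 0 := by decide +kernel
      exact fun r _ => Int.dvd_of_emod_eq_zero (this r)
    · obtain ⟨⟨c, hc⟩, h8⟩ := hv
      have hv' : v ∈ Mod4 := ⟨c, hc⟩
      refine ⟨⟨⟨fun j => gI * c j, fun p => ?_⟩, ?_⟩, ⟨mem_op _ _ _ rj_eq _ rj_cert hv', ?_⟩,
        ⟨mem_op _ _ _ rk_eq _ rk_cert hv', ?_⟩, ⟨mem_op _ _ _ sg_eq _ sg_cert hv', ?_⟩,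
        mem_op _ _ _ sh_eq _ sh_cert hv', ?_⟩
      · have : (gI • v) p - comb (fun j => gI * c j) p = gI * (v p - comb c p) := by
          simp [comb, Finset.mul_sum, mul_sub, mul_assoc]
        rw [this]; exact dvd_mul_of_dvd_right (hc p) _
      · rwa [norm_op (fun v => gI • v) (fun _ => gI) id (fun _ _ => rfl) (fun _ => by decide +kernel)
          Function.bijective_id v]
      · rwa [norm_op _ _ _ rj_eq (by decide +kernel) (by decide +kernel) v]
      · rwa [norm_op _ _ _ rk_eq (by decide +kernel) (by decide +kernel) v]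
      · rwa [norm_op _ _ _ sg_eq (by decide +kernel) Function.bijective_id v]
      · rwa [norm_op _ _ _ sh_eq (fun _ => by decide +kernel) (by decide +kernel) v]
  exact ((sInf_le hS : ruLattice ≤ S) hx).2

end Cfsg.Agent.RuLat
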