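import Cfsg.Agent.Lib.RuLat.Basic

/-! No short vectors in the Rudvalis lattice. -/

set_option autoImplicit false
set_option maxRecDepth 100000

namespace Cfsg.Agent.RuLat

open Cfsg.Spor Finset

/-- A certified member. -/
def aV (C : List (List GaussianInt)) (r : ℕ) : RuVec := comb (coef C r)

/-- An entry of a zero-one table. -/
def bit (L : List ℕ) (r : ℕ) (p : RuIdx) : ℤ := if (L.getD r 0).testBit (ix p) then 1 else 0

/-- The coordinate in a given position. -/
def pos (k : ℕ) : RuIdx := (Fin.ofNat 7 (k / 4), Fin.ofNat 4 (k % 4))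

/-- The parity of a Gaussian integer. -/
def par (z : GaussianInt) : ZMod 2 := ((z.re + z.im : ℤ) : ZMod 2)

theorem m1_cert : ∀ r : Fin 19, ∀ p, ((aV m1 r.val p).re - 2 * bit mask1 r.val p) % 4 = 0 ∧
    ((aV m1 r.val p).im - 2 * bit mask1 r.val p) % 4 = 0 := by decide +kernel
theorem m2_cert : ∀ r : Fin 18, ∀ p,
    ((aV m2 r.val p).re + (aV m2 r.val p).im - 2 * bit mask2 r.val p) % 4 = 0 ∧
    ((aV m2 r.val p).im - (aV m2 r.val p).re - 2 * bit mask2 r.val p) % 4 = 0 := by decide +kernel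
theorem m3_cert : ∀ r : Fin 10, ∀ p, ((aV m3 r.val p).re - bit mask3 r.val p) % 2 = 0 ∧
    ((aV m3 r.val p).im - bit mask3 r.val p) % 2 = 0 := by decide +kernel
theorem m4_cert : ∀ p : RuIdx, ((aV m4 (ix p) p).re + (aV m4 (ix p) p).im) % 2 = 1 := by decide +kernel

theorem k1_cert : ∀ r : Fin 21, (∀ p, bit sup1 r.val p = 0 ∨
      ((aV k1 r.val p).re % 2 = 0 ∧ ((aV k1 r.val p).im - (aV k1 r.val p).re) % 4 = 0)) ∧
    (∑ p, bit sup1 r.val p * (aV k1 r.val p).re) % 4 ≠ 0 := by decide +kernel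
theorem k2_cert : ∀ r : Fin 7, (∀ p, bit sup2 r.val p = 0 ∨
      ((aV k2 r.val p).re % 2 = 0 ∧ (aV k2 r.val p).im % 2 = 0)) ∧
    (∑ p, bit sup2 r.val p * ((aV k2 r.val p).re + (aV k2 r.val p).im)) % 4 ≠ 0 := by decide +kernel

/-- A word of the first code. -/
def enc1 (f : Fin 9 → ZMod 2) (p : RuIdx) : ZMod 2 := ∑ j, f j * (bit row1 j.val p : ZMod 2)
/-- A word of the second code. -/
def enc2 (f : Fin 10 → ZMod 2) (p : RuIdx) : ZMod 2 := ∑ j, f j * (bit row2 j.val p : ZMod 2)

/-- The dependence of a coordinate on a check. -/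
def chk (pv mk : List ℕ) (r : ℕ) (p : RuIdx) : ZMod 2 :=
  if (mk.getD r 0).testBit (ix p) && !(pv.contains (ix p)) then 1 else 0

theorem rec1 : ∀ p q : RuIdx, (∑ j : Fin 9, if q = pos (piv1.getD j.val 0) then (bit row1 j.val p : ZMod 2) else 0) +
    (∑ r : Fin 19, chk piv1 mask1 r.val p * (bit mask1 r.val q : ZMod 2)) = if q = p then 1 else 0 := by
  decide +kernel
theorem rec2 : ∀ p q : RuIdx, (∑ j : Fin 10, if q = pos (piv2.getD j.val 0) then (bit row2 j.val p : ZMod 2) else 0) +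
    (∑ r : Fin 18, chk piv2 mask2 r.val p * (bit mask2 r.val q : ZMod 2)) = if q = p then 1 else 0 := by
  decide +kernel

theorem light1 : ∀ f : Fin 9 → ZMod 2, 8 < (univ.filter fun p => enc1 f p ≠ 0).card ∨ (∀ p, enc1 f p = 0) ∨
    ((univ.filter fun p => enc1 f p ≠ 0).card = 8 ∧ ∃ r : Fin 21, ∀ p, enc1 f p = (bit sup1 r.val p : ZMod 2)) := by
  decide +kernel
theorem light2 : ∀ f : Fin 10 → ZMod 2, 4 < (univ.filter fun p => enc2 f p ≠ 0).card ∨ (∀ p, enc2 f p = 0) ∨
    ((univ.filter fun p => enc2 f p ≠ 0).card = 4 ∧ ∃ r : Fin 7, ∀ p, enc2 f p = (bit sup2 r.val p : ZMod 2)) := by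
  decide +kernel
theorem light3 : (∀ p, ∃ r : Fin 10, (bit mask3 r.val p : ZMod 2) ≠ 0) ∧
    ∀ p q, p ≠ q → ∃ r : Fin 10, (bit mask3 r.val p : ZMod 2) + (bit mask3 r.val q : ZMod 2) ≠ 0 := by decide +kernel

theorem recon {k m : ℕ} (row : Fin k → RuIdx → ZMod 2) (pv : Fin k → RuIdx) (R M : Fin m → RuIdx → ZMod 2)
    (hrec : ∀ p q, (∑ j, if q = pv j then row j p else 0) + (∑ r, R r p * M r q) = if q = p then 1 else 0)
    (w : RuIdx → ZMod 2) (hw : ∀ r, ∑ q, M r q * w q = 0) (p : RuIdx) :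
    w p = ∑ j, w (pv j) * row j p := by
  have h : ∑ q, ((∑ j, if q = pv j then row j p else 0) + (∑ r, R r p * M r q)) * w q =
      ∑ q, (if q = p then 1 else 0) * w q := sum_congr rfl fun q _ => by rw [hrec]
  have h2 : ∑ q, (∑ r, R r p * M r q) * w q = 0 := by
    simp only [Finset.sum_mul, mul_assoc]
    rw [Finset.sum_comm]
    simp only [← Finset.mul_sum, hw, mul_zero, sum_const_zero]
  have h1 : ∑ q, (∑ j, if q = pv j then row j p else 0) * w q = ∑ j, w (pv j) * row j p := by
    simp only [Finset.sum_mul, ite_mul, zero_mul]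
    rw [Finset.sum_comm]
    exact sum_congr rfl fun j _ => by simp [mul_comm]
  simp only [add_mul, sum_add_distrib, h1, h2, add_zero] at h
  simpa using h.symm

theorem par_check {a x : RuVec} (ha : a ∈ Mod4) (hx : x ∈ Mod4) (b : RuIdx → ℤ) (y : RuVec)
    (h : ∀ p, (4 : ℤ) ∣ (a p).re * (x p).re + (a p).im * (x p).im - 2 * (b p * ((y p).re + (y p).im))) :
    ∑ p, (b p : ZMod 2) * par (y p) = 0 := by
  have h1 := dvd_sum (s := univ) fun p _ => h p
  rw [sum_sub_distrib, ← Finset.mul_sum] at h1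
  have h3 : (4 : ℤ) ∣ ∑ p, ((a p).re * (x p).re + (a p).im * (x p).im) := form_dvd ha hx
  have h2 : ((2 : ℕ) : ℤ) ∣ ∑ p, b p * ((y p).re + (y p).im) := by omega
  have := (ZMod.intCast_zmod_eq_zero_iff_dvd _ 2).mpr h2
  simpa [par] using this

theorem no_value {a x : RuVec} (ha : a ∈ Mod4) (hx : x ∈ Mod4) (e : RuIdx → ℤ)
    (h : ∀ p, (4 : ℤ) ∣ (a p).re * (x p).re + (a p).im * (x p).im - e p) : (∑ p, e p) % 4 = 0 := by
  have h1 := dvd_sum (s := univ) fun p _ => h p
  rw [sum_sub_distrib] at h1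
  have h3 : (4 : ℤ) ∣ ∑ p, ((a p).re * (x p).re + (a p).im * (x p).im) := form_dvd ha hx
  omega

theorem norm_nonneg' (z : GaussianInt) : 0 ≤ z.norm := GaussianInt.norm_nonneg z

theorem par_norm (z : GaussianInt) : ((z.norm : ℤ) : ZMod 2) = par z := by
  simp only [par, Zsqrtd.norm_def]
  push_cast
  generalize ((z.re : ℤ) : ZMod 2) = a
  generalize ((z.im : ℤ) : ZMod 2) = b
  revert a b
  decide

theorem par_le {z : GaussianInt} (h : par z ≠ 0) : 1 ≤ z.norm := by
  rcases (norm_nonneg' z).lt_or_eq with h1 | h1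
  · omega
  · rw [← par_norm, ← h1] at h; simp at h

theorem weight_le {y : RuVec} {n : ℕ} (hn : ruNorm y ≤ n) :
    (univ.filter fun p => par (y p) ≠ 0).card ≤ n ∧
    ((univ.filter fun p => par (y p) ≠ 0).card = n → ∀ p, (y p).norm = if par (y p) ≠ 0 then 1 else 0) := by
  have hle : ∀ p ∈ (univ : Finset RuIdx), (if par (y p) ≠ 0 then (1 : ℤ) else 0) ≤ (y p).norm := fun p _ => by
    split_ifs with h
    · exact par_le h
    · exact norm_nonneg' _
  have hs : ∑ p, (if par (y p) ≠ 0 then (1 : ℤ) else 0) = ((univ.filter fun p => par (y p) ≠ 0).card : ℤ) := by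
    rw [sum_boole]
  have h := sum_le_sum hle
  rw [hs] at h
  unfold ruNorm at hn
  refine ⟨by omega, fun hc p => ((sum_eq_sum_iff_of_le hle).mp ?_ p (mem_univ p)).symm⟩
  rw [hs]; omega

/-- Division by `1 + i`. -/
def half (z : GaussianInt) : GaussianInt := ⟨(z.re + z.im) / 2, (z.im - z.re) / 2⟩

theorem half_spec {z : GaussianInt} (h : par z = 0) :
    z.re = (half z).re - (half z).im ∧ z.im = (half z).re + (half z).im ∧ z.norm = 2 * (half z).norm := by
  obtain ⟨k, hk⟩ := (ZMod.intCast_zmod_eq_zero_iff_dvd (z.re + z.im) 2).mp h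
  push_cast at hk
  have h1 : z.re = (half z).re - (half z).im := by simp only [half]; omega
  have h2 : z.im = (half z).re + (half z).im := by simp only [half]; omega
  exact ⟨h1, h2, by simp only [Zsqrtd.norm_def]; rw [h1, h2]; ring⟩

theorem emod_of_par {z : GaussianInt} (h : par z ≠ 0) : (z.re + z.im) % 2 = 1 := by
  rcases Int.emod_two_eq (z.re + z.im) with e | e
  · exact absurd ((ZMod.intCast_zmod_eq_zero_iff_dvd _ 2).mpr (Int.dvd_of_emod_eq_zero e)) h
  · exact e

theorem half_norm {x : RuVec} (h : ∀ p, par (x p) = 0) : ruNorm x = 2 * ruNorm (fun p => half (x p)) := by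
  simp only [ruNorm, Finset.mul_sum]
  exact sum_congr rfl fun p _ => (half_spec (h p)).2.2

theorem first_layer {x : RuVec} (hx : x ∈ Mod4) (hn : ruNorm x ≤ 8) : ∀ p, par (x p) = 0 := by
  have hw : ∀ r : Fin 19, ∑ q, ((bit mask1 r.val q : ℤ) : ZMod 2) * par (x q) = 0 := fun r =>
    par_check (a := aV m1 r.val) (comb_mem _) hx (bit mask1 r.val) x fun p => by
      have : (aV m1 r.val p).re * (x p).re + (aV m1 r.val p).im * (x p).im - 2 * (bit mask1 r.val p * ((x p).re + (x p).im)) =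
          ((aV m1 r.val p).re - 2 * bit mask1 r.val p) * (x p).re + ((aV m1 r.val p).im - 2 * bit mask1 r.val p) * (x p).im := by ring
      rw [this]
      exact dvd_add (dvd_mul_of_dvd_left (Int.dvd_of_emod_eq_zero (m1_cert r p).1) _)
        (dvd_mul_of_dvd_left (Int.dvd_of_emod_eq_zero (m1_cert r p).2) _)
  have henc : ∀ p, par (x p) = enc1 (fun j => par (x (pos (piv1.getD j.val 0)))) p :=
    recon (fun j p => (bit row1 j.val p : ZMod 2)) _ (fun r p => chk piv1 mask1 r.val p)
      (fun r q => (bit mask1 r.val q : ZMod 2)) rec1 (fun p => par (x p)) hw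
  obtain ⟨hcard, heq⟩ := weight_le (n := 8) (by exact_mod_cast hn)
  rcases light1 (fun j => par (x (pos (piv1.getD j.val 0)))) with h | h | ⟨h, r, hr⟩
  · simp only [← henc] at h; omega
  · simpa only [← henc] using h
  simp only [← henc] at h hr
  have hnorm := heq h
  refine absurd (no_value (a := aV k1 r.val) (comb_mem _) hx (fun p => bit sup1 r.val p * (aV k1 r.val p).re)
    fun p => ?_) (k1_cert r).2
  by_cases hb : (sup1.getD r.val 0).testBit (ix p) = true
  · have hbit : bit sup1 r.val p = 1 := if_pos hb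
    have hp : par (x p) ≠ 0 := by rw [hr]; simp [hbit]
    obtain ⟨hre, him⟩ := ((k1_cert r).1 p).resolve_left (by simp [hbit])
    obtain ⟨u, hu⟩ := Int.dvd_of_emod_eq_zero hre
    obtain ⟨v, hv⟩ := Int.dvd_of_emod_eq_zero him
    obtain ⟨k, hk⟩ : (2 : ℤ) ∣ (x p).re + (x p).im - 1 := by have := emod_of_par hp; omega
    refine ⟨v * (x p).im + u * k, ?_⟩
    rw [hbit, one_mul]
    linear_combination ((x p).re + (x p).im - 1) * hu + (x p).im * hv + 2 * u * hk
  · have hbit : bit sup1 r.val p = 0 := if_neg hb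
    have hp : par (x p) = 0 := by rw [hr]; simp [hbit]
    have h0 := hnorm p
    rw [if_neg (not_not.mpr hp)] at h0
    rw [GaussianInt.norm_eq_zero.mp h0]
    simp [hbit]

theorem second_layer {x : RuVec} (hx : x ∈ Mod4) (h0 : ∀ p, par (x p) = 0) (hn : ruNorm x ≤ 8) :
    ∀ p, par (half (x p)) = 0 := by
  set y : RuVec := fun p => half (x p) with hy
  have hn' : ruNorm y ≤ 4 := by rw [half_norm h0, ← hy] at hn; omega
  have hw : ∀ r : Fin 18, ∑ q, ((bit mask2 r.val q : ℤ) : ZMod 2) * par (y q) = 0 := fun r =>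
    par_check (a := aV m2 r.val) (comb_mem _) hx (bit mask2 r.val) y fun p => by
      obtain ⟨hr, hi, -⟩ := half_spec (h0 p)
      have : (aV m2 r.val p).re * (x p).re + (aV m2 r.val p).im * (x p).im - 2 * (bit mask2 r.val p * ((y p).re + (y p).im)) =
          ((aV m2 r.val p).re + (aV m2 r.val p).im - 2 * bit mask2 r.val p) * (y p).re +
          ((aV m2 r.val p).im - (aV m2 r.val p).re - 2 * bit mask2 r.val p) * (y p).im := by
        rw [hr, hi]; simp only [hy]; ring
      rw [this]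
      exact dvd_add (dvd_mul_of_dvd_left (Int.dvd_of_emod_eq_zero (m2_cert r p).1) _)
        (dvd_mul_of_dvd_left (Int.dvd_of_emod_eq_zero (m2_cert r p).2) _)
  have henc : ∀ p, par (y p) = enc2 (fun j => par (y (pos (piv2.getD j.val 0)))) p :=
    recon (fun j p => (bit row2 j.val p : ZMod 2)) _ (fun r p => chk piv2 mask2 r.val p)
      (fun r q => (bit mask2 r.val q : ZMod 2)) rec2 (fun p => par (y p)) hw
  obtain ⟨hcard, heq⟩ := weight_le (n := 4) (by exact_mod_cast hn')
  rcases light2 (fun j => par (y (pos (piv2.getD j.val 0)))) with h | h | ⟨h, r, hr⟩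
  · simp only [← henc] at h; omega
  · simpa only [← henc] using h
  simp only [← henc] at h hr
  have hnorm := heq h
  refine absurd (no_value (a := aV k2 r.val) (comb_mem _) hx
    (fun p => bit sup2 r.val p * ((aV k2 r.val p).re + (aV k2 r.val p).im)) fun p => ?_) (k2_cert r).2
  obtain ⟨hxr, hxi, -⟩ := half_spec (h0 p)
  by_cases hb : (sup2.getD r.val 0).testBit (ix p) = true
  · have hbit : bit sup2 r.val p = 1 := if_pos hb
    have hp : par (y p) ≠ 0 := by rw [hr]; simp [hbit]
    obtain ⟨hre, him⟩ := ((k2_cert r).1 p).resolve_left (by simp [hbit])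
    obtain ⟨u, hu⟩ := Int.dvd_of_emod_eq_zero hre
    obtain ⟨v, hv⟩ := Int.dvd_of_emod_eq_zero him
    obtain ⟨k, hk⟩ : (2 : ℤ) ∣ (y p).re + (y p).im - 1 := by have := emod_of_par hp; omega
    refine ⟨(u + v) * k - u * (y p).im, ?_⟩
    rw [hbit, one_mul]
    rw [hxr, hxi, hu, hv]
    simp only [hy] at hk ⊢
    linear_combination 2 * (u + v) * hk
  · have hbit : bit sup2 r.val p = 0 := if_neg hb
    have hp : par (y p) = 0 := by rw [hr]; simp [hbit]
    have h1 := hnorm p
    rw [if_neg (not_not.mpr hp)] at h1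
    have e : half (x p) = 0 := GaussianInt.norm_eq_zero.mp h1
    rw [hxr, hxi, e]
    simp [hbit]

theorem short_zero {x : RuVec} (hxl : x ∈ ruLattice) (hn : ruNorm x ≤ 8) : x = 0 := by
  have hx := le_mod4 hxl
  have h0 := first_layer hx hn
  have h1 := second_layer hx h0 hn
  set y : RuVec := fun p => half (x p) with hy
  set z : RuVec := fun p => half (y p) with hz
  have hny : ruNorm x = 2 * ruNorm y := half_norm h0
  have hnz : ruNorm y = 2 * ruNorm z := half_norm h1
  have hxz : ∀ p, (x p).re = -2 * (z p).im ∧ (x p).im = 2 * (z p).re := fun p => by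
    obtain ⟨a, b, -⟩ := half_spec (h0 p)
    obtain ⟨c, d, -⟩ := half_spec (h1 p)
    simp only [hz, hy] at *
    exact ⟨by omega, by omega⟩
  have hw : ∀ r : Fin 10, ∑ q, ((bit mask3 r.val q : ℤ) : ZMod 2) * par (z q) = 0 := fun r =>
    par_check (a := aV m3 r.val) (comb_mem _) hx (bit mask3 r.val) z fun p => by
      obtain ⟨u, hu⟩ := Int.dvd_of_emod_eq_zero (m3_cert r p).1
      obtain ⟨v, hv⟩ := Int.dvd_of_emod_eq_zero (m3_cert r p).2
      refine ⟨-(u + bit mask3 r.val p) * (z p).im + v * (z p).re, ?_⟩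
      rw [(hxz p).1, (hxz p).2]
      linear_combination (-2 * (z p).im) * hu + (2 * (z p).re) * hv
  have hn2 : ruNorm z ≤ 2 := by omega
  have hz0 : ∀ p, par (z p) = 0 := by
    set S := univ.filter fun p => par (z p) ≠ 0 with hS
    have hcard : S.card ≤ 2 := (weight_le (n := 2) (by exact_mod_cast hn2)).1
    have hsum : ∀ r : Fin 10, ∑ q ∈ S, ((bit mask3 r.val q : ℤ) : ZMod 2) = 0 := fun r => by
      rw [← hw r, hS, sum_filter]
      refine sum_congr rfl fun q _ => ?_
      generalize par (z q) = a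
      generalize ((bit mask3 r.val q : ℤ) : ZMod 2) = b
      revert a b
      decide
    intro p
    by_contra hp
    have hpS : p ∈ S := mem_filter.mpr ⟨mem_univ _, hp⟩
    rcases (show S.card = 0 ∨ S.card = 1 ∨ S.card = 2 by omega) with h | h | h
    · rw [card_eq_zero] at h; rw [h] at hpS; simp at hpS
    · obtain ⟨a, ha⟩ := card_eq_one.mp h
      obtain ⟨r, hr⟩ := light3.1 a
      have := hsum r
      rw [ha, sum_singleton] at this
      exact hr this
    · obtain ⟨a, b, hab, he⟩ := card_eq_two.mp h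
      obtain ⟨r, hr⟩ := light3.2 a b hab
      have := hsum r
      rw [he, sum_pair hab] at this
      exact hr this
  set v : RuVec := fun p => half (z p) with hv
  have hn3 : ruNorm v ≤ 1 := by
    have := half_norm hz0
    rw [← hv] at this
    omega
  have hx0 : ∀ p, v p = 0 → x p = 0 := fun p hp => by
    obtain ⟨a, b, -⟩ := half_spec (hz0 p)
    simp only [hv] at hp
    have hr : (half (z p)).re = 0 := by rw [hp]; rfl
    have hi : (half (z p)).im = 0 := by rw [hp]; rfl
    have := hxz p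
    apply Zsqrtd.ext
    · show (x p).re = 0; omega
    · show (x p).im = 0; omega
  funext p
  refine hx0 p ?_
  by_contra hp
  have hpos : ∀ q, v q ≠ 0 → 1 ≤ (v q).norm := fun q hq => by
    rcases (norm_nonneg' (v q)).lt_or_eq with h | h
    · omega
    · exact absurd (GaussianInt.norm_eq_zero.mp h.symm) hq
  have hsingle : ∀ q, q ≠ p → v q = 0 := fun q hq => by
    by_contra hne
    have h2 : (v p).norm + (v q).norm ≤ ruNorm v := by
      rw [← sum_pair (Ne.symm hq) (f := fun t => (v t).norm)]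
      exact sum_le_sum_of_subset_of_nonneg (subset_univ _) fun t _ _ => norm_nonneg' _
    have := hpos p hp
    have := hpos q hne
    omega
  have hnp : (v p).norm = 1 := le_antisymm
    ((single_le_sum (fun t _ => norm_nonneg' (v t)) (mem_univ p)).trans hn3) (hpos p hp)
  have hpar : par (v p) ≠ 0 := by rw [← par_norm, hnp]; decide
  have hbad := no_value (a := aV m4 (ix p)) (comb_mem _) hx (fun q => if q = p then 2 else 0) fun q => by
    by_cases hq : q = p
    · subst hq
      obtain ⟨a, b, -⟩ := half_spec (hz0 q)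
      obtain ⟨u, hu⟩ : (2 : ℤ) ∣ (aV m4 (ix q) q).re + (aV m4 (ix q) q).im - 1 := by
        have := m4_cert q; omega
      obtain ⟨k, hk⟩ : (2 : ℤ) ∣ (v q).re + (v q).im - 1 := by have := emod_of_par hpar; omega
      refine ⟨-(aV m4 (ix q) q).re * (v q).re - (aV m4 (ix q) q).re * (v q).im + u * (v q).re - u * (v q).im
        + (aV m4 (ix q) q).re * (v q).im + k - (v q).im, ?_⟩
      rw [if_pos rfl, (hxz q).1, (hxz q).2, a, b]
      simp only [hv] at hk ⊢
      linear_combination (2 * ((half (z q)).re - (half (z q)).im)) * hu + 2 * hk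
    · rw [if_neg hq, hx0 q (hsingle q hq)]
      simp
  rw [sum_ite_eq' univ p] at hbad
  simp at hbad

theorem ru_facts : (∀ x ∈ ruLattice, (8 : ℤ) ∣ ruNorm x) ∧ (∀ x ∈ ruLattice, ruNorm x ≠ 8) ∧
    (∀ x ∈ ruLattice, x ≠ 0 → 16 ≤ ruNorm x) ∧ ∃ x ∈ ruLattice, ruNorm x = 16 := by
  refine ⟨fun x hx => eight_dvd hx, fun x hx h => ?_, fun x hx h0 => ?_, ?_⟩
  · have := short_zero hx h.le
    rw [this] at h
    simp [ruNorm] at h
  · by_contra hlt
    obtain ⟨k, hk⟩ := eight_dvd hx
    exact h0 (short_zero hx (by omega))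
  · refine ⟨ruTable.getD 0 0, AddSubgroup.mem_sInf.mpr fun L hL => hL.1 _ ?_, by decide +kernel⟩
    exact List.mem_cons_self

end Cfsg.Agent.RuLat
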